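import Mathlib.Topology.KrullDimension
import Mathlib.Topology.NoetherianSpace
import Mathlib.Topology.Sober
import Mathlib.Topology.Separation.Basic

/-!
Sober noetherian spaces of dimension at most one.
-/

namespace Groth.Agent.H34.DimOne

open TopologicalSpace Topology Set

variable {α : Type*} [TopologicalSpace α] [QuasiSober α] [T0Space α]

/-- A minimal irreducible closed subset is a single closed point. -/
theorem exists_eq_singleton_of_isMin (Z : IrreducibleCloseds α) (hZ : IsMin Z) :
    ∃ w : α, (Z : Set α) = {w} := by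
  obtain ⟨w, hw⟩ := QuasiSober.sober Z.isIrreducible Z.isClosed
  refine ⟨w, ?_⟩
  refine Set.eq_singleton_iff_unique_mem.2 ⟨hw.def ▸ subset_closure rfl, fun v hv ↦ ?_⟩
  let W : IrreducibleCloseds α := ⟨closure {v}, isIrreducible_singleton.closure, isClosed_closure⟩
  have hWZ : W ≤ Z := fun x hx ↦ Z.isClosed.closure_subset_iff.2 (Set.singleton_subset_iff.2 hv) hx
  have hle : (Z : Set α) ⊆ closure {v} := fun x hx ↦ hZ hWZ hx
  have hwv : v ⤳ w := specializes_iff_mem_closure.2 (hle (hw.def ▸ subset_closure rfl))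
  have hvw : w ⤳ v := specializes_iff_mem_closure.2 (hw.def.symm ▸ hv : v ∈ closure {w})
  exact (hwv.antisymm hvw).eq

omit [QuasiSober α] [T0Space α] in
/-- A maximal irreducible closed subset is an irreducible component. -/
theorem mem_irreducibleComponents_of_isMax (Z : IrreducibleCloseds α) (hZ : IsMax Z) :
    (Z : Set α) ∈ irreducibleComponents α := by
  rw [irreducibleComponents_eq_maximals_closed]
  refine ⟨⟨Z.isClosed, Z.isIrreducible⟩, fun t ht hle ↦ ?_⟩
  exact hZ (b := ⟨t, ht.2, ht.1⟩) hle

omit [QuasiSober α] [T0Space α] in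
/-- In dimension at most one, a non-minimal irreducible closed set is a one-dimensional component. -/
theorem component_of_not_isMin (hdim : topologicalKrullDim α ≤ 1) (Z : IrreducibleCloseds α)
    (hZ : ¬ IsMin Z) :
    (Z : Set α) ∈ irreducibleComponents α ∧ topologicalKrullDim ↥(Z : Set α) = 1 := by
  refine ⟨mem_irreducibleComponents_of_isMax Z
    ((Order.krullDim_le_one_iff.1 hdim Z).resolve_left hZ), le_antisymm ?_ ?_⟩
  · exact (topologicalKrullDim_subspace_le α _).trans hdim
  · rw [not_isMin_iff] at hZ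
    obtain ⟨W, hW⟩ := hZ
    let j : (↥(Z : Set α)) → α := Subtype.val
    have hW' : IsIrreducible (j ⁻¹' (W : Set α)) := by
      have himg : j '' (j ⁻¹' (W : Set α)) = W := by
        rw [Subtype.image_preimage_coe, Set.inter_eq_right.2]
        exact hW.le
      refine ⟨?_, fun u v hu hv hWu hWv ↦ ?_⟩
      · obtain ⟨x, hx⟩ := W.isIrreducible.nonempty
        exact ⟨⟨x, hW.le hx⟩, hx⟩
      · obtain ⟨u', hu', rfl⟩ := hu
        obtain ⟨v', hv', rfl⟩ := hv
        obtain ⟨a, ha, hau⟩ := hWu
        obtain ⟨b, hb, hbv⟩ := hWv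
        obtain ⟨c, hc, hcu, hcv⟩ :=
          W.isIrreducible.2 u' v' hu' hv' ⟨a.1, ha, hau⟩ ⟨b.1, hb, hbv⟩
        exact ⟨⟨c, hW.le hc⟩, hc, hcu, hcv⟩
    have htop : IsIrreducible (Set.univ : Set ↥(Z : Set α)) := by
      have := Z.isIrreducible
      rw [isIrreducible_iff_irreducibleSpace] at this
      exact IrreducibleSpace.isIrreducible_univ _
    refine Order.one_le_krullDim_iff.2 ⟨⟨_, hW', W.isClosed.preimage continuous_subtype_val⟩,
      ⟨_, htop, isClosed_univ⟩, lt_of_le_of_ne (fun x _ ↦ trivial) fun heq ↦ hW.not_ge ?_⟩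
    intro x hx
    have : (⟨x, hx⟩ : ↥(Z : Set α)) ∈ j ⁻¹' (W : Set α) := by
      have := congrArg (fun s : IrreducibleCloseds _ ↦ (s : Set ↥(Z : Set α))) heq
      show (⟨x, hx⟩ : ↥(Z : Set α)) ∈ j ⁻¹' (W : Set α)
      exact (show Set.univ = j ⁻¹' (W : Set α) from this.symm) ▸ Set.mem_univ _
    exact this

/-- In dimension at most one a point is closed or the generic point of a component. -/
theorem isClosed_or_component (hdim : topologicalKrullDim α ≤ 1) (x : α) :
    IsClosed ({x} : Set α) ∨ closure ({x} : Set α) ∈ irreducibleComponents α := by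
  let Z : IrreducibleCloseds α := ⟨closure {x}, isIrreducible_singleton.closure, isClosed_closure⟩
  by_cases hZ : IsMin Z
  · obtain ⟨w, hw⟩ := exists_eq_singleton_of_isMin Z hZ
    left
    have hx : x ∈ (Z : Set α) := subset_closure rfl
    rw [hw] at hx
    have : x = w := hx
    rw [this, ← hw]
    exact Z.isClosed
  · exact Or.inr (component_of_not_isMin hdim Z hZ).1

/-- A closed set is finite if it contains no one-dimensional component. -/
theorem finite_of_no_component [NoetherianSpace α] (hdim : topologicalKrullDim α ≤ 1)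
    {F : Set α} (hF : IsClosed F)
    (h : ∀ Z ∈ irreducibleComponents α, topologicalKrullDim ↥Z = 1 → ¬ Z ⊆ F) : F.Finite := by
  obtain ⟨S, hS, hcl, hirr, hFS⟩ := NoetherianSpace.exists_finite_set_isClosed_irreducible hF
  subst hFS
  refine hS.sUnion fun W hW ↦ ?_
  let W' : IrreducibleCloseds α := ⟨W, hirr W hW, hcl W hW⟩
  by_cases hmin : IsMin W'
  · obtain ⟨w, hw⟩ := exists_eq_singleton_of_isMin W' hmin
    exact show (W' : Set α).Finite from hw ▸ Set.finite_singleton w
  · obtain ⟨h1, h2⟩ := component_of_not_isMin hdim W' hmin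
    exact absurd (Set.subset_sUnion_of_mem hW) (h W h1 h2)

end Groth.Agent.H34.DimOne
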