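import Groth.Agent.Lib.ZarCoh.Basic
import Groth.Agent.H34.DimOne
import Groth.Agent.H34.UFDExt.Topo
import Mathlib.Topology.Sheaves.Abelian
import Mathlib.Topology.Sheaves.Skyscraper

/-!
Vanishing of cohomology above degree one on sober noetherian spaces of dimension at most one.
-/

set_option linter.style.haveILetI false

universe u

open CategoryTheory CategoryTheory.Limits TopologicalSpace Opposite CategoryTheory.Abelian

namespace Groth.Agent.H34.VanishOne

open Lib.ZarCoh.Basic

variable {X : TopCat.{u}}

/-- The stalk functor on abelian sheaves. -/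
noncomputable abbrev St (x : X) : CohTop.Ab X ⥤ AddCommGrpCat.{u} :=
  TopCat.Sheaf.forget AddCommGrpCat.{u} X ⋙ TopCat.Presheaf.stalkFunctor AddCommGrpCat.{u} x

instance St_preservesEpi (x : X) : (St x).PreservesEpimorphisms :=
  inferInstanceAs (TopCat.Sheaf.forget AddCommGrpCat.{u} X ⋙
    TopCat.Presheaf.stalkFunctor AddCommGrpCat.{u} x).PreservesEpimorphisms

instance St_preservesMono (x : X) : (St x).PreservesMonomorphisms :=
  TopCat.Presheaf.stalkFunctor_preserves_mono x

instance St_additive (x : X) : (St x).Additive where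
  map_add {_ _ f g} := (TopCat.Presheaf.stalkFunctor AddCommGrpCat.{u} x).map_add (f := f.hom) (g := g.hom)

/-- A generic point of an irreducible component. -/
def IsGenPt (x : X) : Prop := closure ({x} : Set X) ∈ irreducibleComponents X

variable [QuasiSober X] [T0Space X] [NoetherianSpace X]

omit [QuasiSober X] in
theorem finite_setOf_isGenPt : {x : X | IsGenPt x}.Finite := by
  refine NoetherianSpace.finite_irreducibleComponents.of_injOn (f := fun x : X => closure {x})
    (fun x hx => hx) fun x _ y _ h => ?_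
  exact ((specializes_iff_closure_subset.2 h.ge).antisymm (specializes_iff_closure_subset.2 h.le)).eq

omit [QuasiSober X] [NoetherianSpace X] in
theorem eq_of_specializes {ξ η : X} (hη : IsGenPt η) (h : ξ ⤳ η) : η = ξ :=
  ((specializes_iff_closure_subset.2
    (hη.2 isIrreducible_singleton.closure (specializes_iff_closure_subset.1 h))).antisymm h).eq

omit [T0Space X] in
/-- A sheaf with non-zero stalks only at closed points is flasque. -/
theorem isFlasque_of_isZero_stalk_of_not_isClosed (F : CohTop.Ab X)
    (h : ∀ x, ¬ IsClosed ({x} : Set X) → IsZero ((St x).obj F)) : TopCat.Sheaf.IsFlasque F where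
  epi {U V} i := by
    rw [AddCommGrpCat.epi_iff_surjective]
    intro s
    let supp : Set X := {x | ∃ hx : x ∈ V.unop, TopCat.Presheaf.germ F.obj V.unop x hx s ≠ 0}
    have hopen : IsOpen {x : X | ∃ hx : x ∈ V.unop, TopCat.Presheaf.germ F.obj V.unop x hx s = 0} := by
      refine isOpen_iff_forall_mem_open.2 fun x ⟨hx, h0⟩ => ?_
      rw [← map_zero (TopCat.Presheaf.germ F.obj V.unop x hx).hom] at h0
      obtain ⟨W, hW, i₁, i₂, hij⟩ := TopCat.Presheaf.germ_eq F.obj x hx hx _ _ h0
      refine ⟨W, fun y hy => ⟨i₁.le hy, ?_⟩, W.2, hW⟩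
      rw [← TopCat.Presheaf.germ_res_apply F.obj i₁ y hy s, hij, map_zero, map_zero]
    have hclosed : ∀ z ∈ supp, IsClosed ({z} : Set X) := fun z ⟨hz, hne⟩ => by
      refine not_not.1 fun hg => hne ?_
      have := AddCommGrpCat.subsingleton_of_isZero (h z hg)
      exact Subsingleton.elim (α := (St z).obj F) _ _
    have hsupp : IsClosed supp := by
      refine closure_subset_iff_isClosed.1 fun x hx => ?_
      have hx' : x ∈ closure ((V.unop : Set X) ∩
          {x : X | ∃ hx : x ∈ V.unop, TopCat.Presheaf.germ F.obj V.unop x hx s = 0}ᶜ) :=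
        closure_mono (show supp ⊆ _ from fun y hy => Set.mem_inter hy.choose fun h' => hy.choose_spec h'.choose_spec) hx
      obtain ⟨z, ⟨hzV, hz0⟩, hzx⟩ :=
        UFDExt.Topo.exists_specializes_of_mem_closure V.unop.2 hopen.isClosed_compl hx'
      have hz : z ∈ supp := ⟨hzV, fun h' => hz0 ⟨hzV, h'⟩⟩
      have : x = z := hzx.mem_closed (hclosed z hz) rfl
      exact this ▸ hz
    let W : Opens X := ⟨suppᶜ, hsupp.isOpen_compl⟩
    let F' : TopCat.Sheaf AddCommGrpCat.{u} X := F
    have hagree : ∀ (y : X) (hyV : y ∈ V.unop) (_ : y ∈ W),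
        TopCat.Presheaf.germ F.obj V.unop y hyV s = 0 :=
      fun y hyV hyW => not_not.1 fun hne => hyW ⟨hyV, hne⟩
    obtain ⟨t, ht, -⟩ := TopCat.Sheaf.existsUnique_gluing' F' (fun b : ULift.{u} Bool => cond b.down V.unop (W ⊓ U.unop)) U.unop
      (fun b => homOfLE (by rcases b with ⟨_ | _⟩; exacts [inf_le_right, i.unop.le]))
      (fun y hy => by
        rw [Opens.mem_iSup]
        by_cases hyV : y ∈ V.unop
        · exact ⟨⟨true⟩, hyV⟩
        · exact ⟨⟨false⟩, fun h' => hyV h'.choose, hy⟩)
      (fun b => match b with | ⟨true⟩ => s | ⟨false⟩ => 0)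
      (fun a b => by
        refine TopCat.Presheaf.section_ext F' _ _ _ fun y hy => ?_
        rcases a with ⟨_ | _⟩ <;> rcases b with ⟨_ | _⟩
        · exact congrArg _ rfl
        · change TopCat.Presheaf.germ F.obj _ y hy _ = TopCat.Presheaf.germ F.obj _ y hy _
          rw [TopCat.Presheaf.germ_res_apply, TopCat.Presheaf.germ_res_apply]
          exact (map_zero _).trans (hagree y hy.2 hy.1.1).symm
        · change TopCat.Presheaf.germ F.obj _ y hy _ = TopCat.Presheaf.germ F.obj _ y hy _
          rw [TopCat.Presheaf.germ_res_apply, TopCat.Presheaf.germ_res_apply]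
          exact (hagree y hy.1 hy.2.1).trans (map_zero _).symm
        · exact congrArg _ rfl)
    exact ⟨t, ht ⟨true⟩⟩

/-- A sheaf without stalks at generic points is flasque. -/
theorem isFlasque_of_isZero_stalk (hdim : topologicalKrullDim X ≤ 1) (F : CohTop.Ab X)
    (h : ∀ x, IsGenPt x → IsZero ((St x).obj F)) : TopCat.Sheaf.IsFlasque F :=
  isFlasque_of_isZero_stalk_of_not_isClosed F fun x hx =>
    h x ((DimOne.isClosed_or_component hdim x).resolve_left hx)

/-- Cohomology vanishes above degree one. -/
def Good (F : CohTop.Ab X) : Prop := ∀ n, Subsingleton (CohTop.H F (n + 2))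

omit [QuasiSober X] [T0Space X] [NoetherianSpace X] in
theorem good_of_shortExact {S : ShortComplex (CohTop.Ab X)} (hS : S.ShortExact)
    (h₁ : Good S.X₁) (h₃ : Good S.X₃) : Good S.X₂ := fun n => by
  refine subsingleton_of_forall_eq 0 fun ξ => ?_
  obtain ⟨y, rfl⟩ := Ext.covariant_sequence_exact₂ _ hS ξ ((h₃ n).elim _ _)
  rw [(h₁ n).elim y 0, Ext.zero_comp]

omit [QuasiSober X] [T0Space X] [NoetherianSpace X] in
theorem good_of_shortExact' {S : ShortComplex (CohTop.Ab X)} (hS : S.ShortExact)
    [TopCat.Sheaf.IsFlasque S.X₂] [TopCat.Sheaf.IsFlasque S.X₃] : Good S.X₁ := fun n => by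
  refine subsingleton_of_forall_eq 0 fun ξ => ?_
  obtain ⟨y, rfl⟩ := Ext.covariant_sequence_exact₁ _ hS ξ
    ((H_flasque S.X₂ (n + 1)).elim _ _) (rfl : (n + 1) + 1 = n + 2)
  rw [(H_flasque S.X₃ n).elim y 0, Ext.zero_comp]

theorem good_aux (hdim : topologicalKrullDim X ≤ 1) (T : Finset X) :
    ∀ F : CohTop.Ab X, (∀ x, IsGenPt x → x ∉ T → IsZero ((St x).obj F)) → Good F := by
  classical
  induction T using Finset.induction with
  | empty =>
    intro F h n
    haveI := isFlasque_of_isZero_stalk hdim F fun x hx => h x hx (Finset.notMem_empty x)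
    exact H_flasque F (n + 1)
  | insert ξ T hξT ih =>
    intro F h
    by_cases hξ : IsGenPt ξ
    swap
    · exact ih F fun x hx hxT => h x hx fun hx' => (Finset.mem_insert.1 hx').elim
        (fun e => hξ (e ▸ hx)) hxT
    let adj := stalkSkyscraperSheafAdjunction (C := AddCommGrpCat.{u}) ξ
    let A := (St ξ).obj F
    let J : CohTop.Ab X := skyscraperSheaf ξ A
    let u : F ⟶ J := adj.unit.app F
    haveI hu : IsIso ((St ξ).map u) := by
      have hc : IsIso (adj.counit.app A) :=
        inferInstanceAs (IsIso (skyscraperPresheafStalkOfSpecializes ξ A specializes_rfl).hom)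
      have htri : (St ξ).map u ≫ adj.counit.app A = 𝟙 _ := adj.left_triangle_components F
      haveI hfg : IsIso ((St ξ).map u ≫ adj.counit.app A) := htri ▸ inferInstance
      exact @IsIso.of_isIso_comp_right _ _ _ _ _ _ (adj.counit.app A) hc hfg
    haveI hJ : TopCat.Sheaf.IsFlasque J := isFlasque_skyscraperSheaf_of_hasZeroObject ξ A
    have hJ0 : ∀ x, IsGenPt x → x ≠ ξ → IsZero ((St x).obj J) := fun x hx hne =>
      IsZero.of_iso (isZero_zero AddCommGrpCat.{u} |>.of_iso (HasZeroObject.zeroIsoTerminal.symm))
        (skyscraperPresheafStalkOfNotSpecializes ξ A fun hs => hne (eq_of_specializes hx hs))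
    let S₁ : ShortComplex (CohTop.Ab X) :=
      ShortComplex.mk (kernel.ι u) (Abelian.factorThruImage u) (by
        rw [← cancel_mono (Abelian.image.ι u), Category.assoc, Abelian.image.fac, kernel.condition,
          zero_comp])
    have hS₁ : S₁.ShortExact :=
      { exact := by
          let φ : S₁ ⟶ ShortComplex.mk (kernel.ι u) u (kernel.condition u) :=
            ⟨𝟙 _, 𝟙 _, Abelian.image.ι u, by simp [S₁], by simp [S₁]⟩
          haveI : Epi φ.τ₁ := inferInstanceAs (Epi (𝟙 _))
          haveI : IsIso φ.τ₂ := inferInstanceAs (IsIso (𝟙 _))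
          haveI : Mono φ.τ₃ := inferInstanceAs (Mono (Abelian.image.ι u))
          exact (ShortComplex.exact_iff_of_epi_of_isIso_of_mono φ).2
            (ShortComplex.exact_of_f_is_kernel _ (kernelIsKernel u))
        mono_f := inferInstanceAs (Mono (kernel.ι u))
        epi_g := inferInstanceAs (Epi (Abelian.factorThruImage u)) }
    let S₂ : ShortComplex (CohTop.Ab X) :=
      ShortComplex.mk (Abelian.image.ι u) (cokernel.π u) (kernel.condition _)
    have hS₂ : S₂.ShortExact :=
      { exact := ShortComplex.exact_of_f_is_kernel _ (kernelIsKernel _)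
        mono_f := inferInstanceAs (Mono (Abelian.image.ι u))
        epi_g := inferInstanceAs (Epi (cokernel.π u)) }
    refine good_of_shortExact hS₁ (ih _ fun x hx hxT => ?_) ?_
    · by_cases hxξ : x = ξ
      · subst hxξ
        refine IsZero.of_mono_eq_zero ((St x).map (kernel.ι u)) ?_
        rw [← cancel_mono ((St x).map u), ← Functor.map_comp, kernel.condition, Functor.map_zero,
          zero_comp]
      · exact IsZero.of_mono ((St x).map (kernel.ι u))
          (h x hx fun hx' => (Finset.mem_insert.1 hx').elim hxξ hxT)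
    · haveI : TopCat.Sheaf.IsFlasque S₂.X₂ := hJ
      haveI : TopCat.Sheaf.IsFlasque S₂.X₃ := isFlasque_of_isZero_stalk hdim _ fun x hx => by
        by_cases hxξ : x = ξ
        · subst hxξ
          refine IsZero.of_epi_eq_zero ((St x).map (cokernel.π u)) ?_
          rw [← cancel_epi ((St x).map u), ← Functor.map_comp, cokernel.condition, Functor.map_zero,
            comp_zero]
        · exact IsZero.of_epi ((St x).map (cokernel.π u)) (hJ0 x hx hxξ)
      exact good_of_shortExact' hS₂

/-- Cohomology of abelian sheaves vanishes above degree one. -/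
theorem H_subsingleton (hdim : topologicalKrullDim X ≤ 1) (F : CohTop.Ab X) (n : ℕ) :
    Subsingleton (CohTop.H F (n + 2)) :=
  good_aux hdim finite_setOf_isGenPt.toFinset F
    (fun _ hx hxT => absurd ((finite_setOf_isGenPt (X := X)).mem_toFinset.2 hx) hxT) n

end Groth.Agent.H34.VanishOne
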