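import Mathlib.AlgebraicGeometry.Morphisms.Etale
import Mathlib.AlgebraicGeometry.Noetherian
import Mathlib.RingTheory.Unramified.Locus

/-!
The points where a morphism is formally smooth and formally unramified have étale neighbourhoods.
-/

universe u

open CategoryTheory AlgebraicGeometry IsLocalRing

namespace Groth.Agent.H34.EtaleAt

variable {X Y : Scheme.{u}} (f : X ⟶ Y)

theorem locallyOfFinitePresentation [IsLocallyNoetherian Y] [LocallyOfFiniteType f] :
    LocallyOfFinitePresentation f where
  finitePresentation_appLE {U} hU {V} hV e :=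
    haveI : IsNoetherianRing Γ(Y, U) := IsLocallyNoetherian.component_noetherian ⟨U, hU⟩
    RingHom.FinitePresentation.of_finiteType.1 (f.finiteType_appLE hU hV e)

theorem exists_etale_nhd [LocallyOfFinitePresentation f] (x : X)
    (hs : (f.stalkMap x).hom.FormallySmooth) (hu : (f.stalkMap x).hom.FormallyUnramified) :
    ∃ W : X.Opens, x ∈ W ∧ Etale (W.ι ≫ f) := by
  obtain ⟨U, hU, V, hV, hVU, hxV, hsm⟩ := exists_smooth_of_formallySmooth_stalk f x hs
  algebraize [(f.appLE U V hVU).hom]
  let p := (hU.primeIdealOf ⟨f x, hVU hxV⟩).asIdeal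
  let q := (hV.primeIdealOf ⟨x, hxV⟩).asIdeal
  have : q.LiesOver p :=
    ⟨congr($(IsAffineOpen.comap_primeIdealOf_appLE U hU V hV hVU hxV).1).symm⟩
  let := Localization.AtPrime.algebraOfLiesOver p q
  have h1 : Algebra.FormallyUnramified (Localization.AtPrime p) (Localization.AtPrime q) := by
    rw [← RingHom.formallyUnramified_algebraMap]
    exact (RingHom.FormallyUnramified.respectsIso.arrow_mk_iso_iff
      (IsAffineOpen.arrowStalkMapIso f U hU V hV hVU hxV)).1 hu
  have : Algebra.FormallyUnramified Γ(Y, U) (Localization.AtPrime p) :=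
    Algebra.FormallyUnramified.of_isLocalization p.primeCompl
  have : Algebra.IsUnramifiedAt Γ(Y, U) q :=
    Algebra.FormallyUnramified.comp Γ(Y, U) (Localization.AtPrime p) _
  have : Algebra.FiniteType Γ(Y, U) Γ(X, V) := inferInstance
  obtain ⟨r, hr, hru⟩ := Algebra.exists_formallyUnramified_of_isUnramifiedAt (R := Γ(Y, U)) q
  refine ⟨X.basicOpen r, ?_, ?_⟩
  · have h3 : hV.primeIdealOf ⟨x, hxV⟩ ∈ hV.fromSpec ⁻¹ᵁ X.basicOpen r := by
      rw [hV.fromSpec_preimage_basicOpen]
      exact hr
    change hV.fromSpec (hV.primeIdealOf ⟨x, hxV⟩) ∈ X.basicOpen r at h3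
    rw [hV.fromSpec_primeIdealOf] at h3
    exact h3
  · have e : X.basicOpen r ≤ f ⁻¹ᵁ U := (X.basicOpen_le r).trans hVU
    have := hV.isLocalization_basicOpen r
    have : Algebra.Smooth Γ(X, V) (Localization.Away r) := inferInstance
    have : Algebra.Smooth Γ(Y, U) (Localization.Away r) :=
      Algebra.Smooth.comp Γ(Y, U) Γ(X, V) _
    have het : Algebra.Etale Γ(Y, U) (Localization.Away r) :=
      Algebra.Etale.iff_formallyUnramified_and_smooth.2 ⟨hru, this⟩
    have h2 : (f.appLE U (X.basicOpen r) e).hom.Etale := by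
      rw [← RingHom.etale_algebraMap] at het
      convert! RingHom.Etale.respectsIso.1 _
        (IsLocalization.algEquiv (.powers r) _ Γ(X, X.basicOpen r)).toRingEquiv het
      ext z
      dsimp
      rw [IsScalarTower.algebraMap_apply Γ(Y, U) Γ(X, V) (Localization.Away r), AlgEquiv.commutes,
        RingHom.algebraMap_toAlgebra, RingHom.algebraMap_toAlgebra, ← ConcreteCategory.comp_apply,
        Scheme.Hom.appLE_map]
    have : IsAffine (U : Scheme.{u}) := hU
    have : IsAffine (X.basicOpen r : Scheme.{u}) := hV.basicOpen r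
    have : Etale (f.resLE U (X.basicOpen r) e) := by
      rw [HasRingHomProperty.iff_of_isAffine (P := @Etale)]
      exact (RingHom.Etale.respectsIso.arrow_mk_iso_iff
        (arrowResLEAppIso f U (X.basicOpen r) e)).mpr h2
    rw [← Scheme.Hom.resLE_comp_ι f e]
    infer_instance

end Groth.Agent.H34.EtaleAt
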