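import Groth.Prelude.Def_Curv2
import Groth.Agent.Lib.Modules.Free
import Groth.Agent.Lib.Modules.GenStalk

/-!
Globally generated modules, through germs of global sections.
-/

universe u

open CategoryTheory Limits AlgebraicGeometry Opposite TopologicalSpace

namespace Groth.Agent.H34.GlobGen

open Lib.Modules

variable {X : Scheme.{u}} {M N : X.Modules}

/-- The germs of the global sections span the stalk. -/
noncomputable def Gl (M : X.Modules) (x : X) : Submodule (X.presheaf.stalk x) (M.presheaf.stalk x) :=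
  Submodule.span _ (Set.range fun m : Γ(M, ⊤) => M.presheaf.germ ⊤ x trivial m)

theorem map_gl_le (φ : M ⟶ N) (x : X) : (Gl M x).map (StalkModule.stalkMapₗ φ x) ≤ Gl N x := by
  rw [Gl, Submodule.map_span, Submodule.span_le]
  rintro _ ⟨_, ⟨m, rfl⟩, rfl⟩
  exact Submodule.subset_span ⟨φ.app ⊤ m, (StalkModule.stalkMapₗ_germ φ _ m).symm⟩

theorem gl_eq_top_of_gg (h : Curv2.IsGloballyGenerated M) (x : X) : Gl M x = ⊤ := by
  obtain ⟨ι, p, hp⟩ := h
  let σ : SheafOfModules.GeneratingSections (R := X.ringCatSheaf) M :=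
    { I := ι
      s := M.freeHomEquiv p
      epi := by rw [Equiv.symm_apply_apply]; exact ⟨fun a b hab => hp.left_cancellation a b hab⟩ }
  refine eq_top_iff.2 ((GenStalk.span_germ_generatingSections σ x).ge.trans (Submodule.span_le.2 ?_))
  rintro _ ⟨i, rfl⟩
  exact Submodule.subset_span ⟨_, rfl⟩

theorem gg_of_gl_eq_top (h : ∀ x, Gl M x = ⊤) : Curv2.IsGloballyGenerated M := by
  let F : X.Modules := SheafOfModules.free (R := X.ringCatSheaf) Γ(M, ⊤)
  let p : F ⟶ M :=
    Cofan.IsColimit.desc (SheafOfModules.isColimitFreeCofan (R := X.ringCatSheaf) Γ(M, ⊤))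
      fun m => Free.unitHom M m
  refine ⟨_, p, (Stalk.epi_iff_stalk_surjective p).2 fun x v => ?_⟩
  suffices hle : Gl M x ≤ LinearMap.range (StalkModule.stalkMapₗ p x) by
    exact hle (h x ▸ Submodule.mem_top)
  rw [Gl, Submodule.span_le]
  rintro _ ⟨m, rfl⟩
  refine ⟨StalkModule.stalkMapₗ
    (SheafOfModules.ιFree (R := X.ringCatSheaf) m : Coh.structureModule X ⟶ F) x
    ((Coh.structureModule X).presheaf.germ ⊤ x trivial (1 : Γ(X, ⊤))), ?_⟩
  refine ((congrArg (StalkModule.stalkMapₗ p x) (StalkModule.stalkMapₗ_germ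
    (SheafOfModules.ιFree (R := X.ringCatSheaf) m : Coh.structureModule X ⟶ F) (U := ⊤) trivial _)).trans
    (StalkModule.stalkMapₗ_germ p (U := ⊤) trivial _)).trans ?_
  refine congrArg (M.presheaf.germ ⊤ x trivial) ?_
  have hfac : (SheafOfModules.ιFree (R := X.ringCatSheaf) m : Coh.structureModule X ⟶ F) ≫ p =
      Free.unitHom M m :=
    Cofan.IsColimit.fac (SheafOfModules.isColimitFreeCofan (R := X.ringCatSheaf) Γ(M, ⊤)) _ m
  exact (congrArg (fun χ : Coh.structureModule X ⟶ M => χ.app ⊤ (1 : Γ(X, ⊤))) hfac).trans (Free.unitHom_app_one M m)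

theorem gg_iff : Curv2.IsGloballyGenerated M ↔ ∀ x, Gl M x = ⊤ :=
  ⟨gl_eq_top_of_gg, gg_of_gl_eq_top⟩

theorem gg_of_epi (φ : M ⟶ N) [Epi φ] (h : Curv2.IsGloballyGenerated M) :
    Curv2.IsGloballyGenerated N := by
  refine gg_of_gl_eq_top fun x => eq_top_iff.2 fun v _ => ?_
  obtain ⟨w, rfl⟩ := (StalkModule.epi_iff_stalkMapₗ_surjective φ).1 ‹_› x v
  exact map_gl_le φ x ⟨w, gl_eq_top_of_gg h x ▸ Submodule.mem_top, rfl⟩

theorem gg_structureModule (X : Scheme.{u}) : Curv2.IsGloballyGenerated (Coh.structureModule X) := by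
  refine gg_of_gl_eq_top fun x => eq_top_iff.2 fun v _ => ?_
  obtain ⟨U, hx, r, rfl⟩ := TopCat.Presheaf.exists_germ_eq _ v
  have key : (Coh.structureModule X).presheaf.germ U x hx r =
      X.presheaf.germ U x hx r • (Coh.structureModule X).presheaf.germ ⊤ x trivial (1 : Γ(X, ⊤)) := by
    refine Eq.trans ?_ ((StalkModule.germ_smul hx (show Γ(X, U) from r) _).trans (congrArg _
      (TopCat.Presheaf.germ_res_apply (Coh.structureModule X).presheaf
        (homOfLE (le_top : U ≤ ⊤)) x hx (1 : Γ(X, ⊤)))))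
    refine congrArg _ ((mul_one (show Γ(X, U) from r)).symm.trans ?_)
    exact congrArg ((show Γ(X, U) from r) * ·)
      (map_one (X.presheaf.map (homOfLE (le_top : U ≤ ⊤)).op).hom).symm
  rw [key]
  exact Submodule.smul_mem _ _ (Submodule.subset_span ⟨_, rfl⟩)

/-- An extension of globally generated modules whose global sections lift is globally generated. -/
theorem gg_of_exact (S : ShortComplex X.Modules) (hS : S.Exact)
    (hsurj : Function.Surjective (S.g.app ⊤))
    (h₁ : Curv2.IsGloballyGenerated S.X₁) (h₃ : Curv2.IsGloballyGenerated S.X₃) :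
    Curv2.IsGloballyGenerated S.X₂ := by
  refine gg_of_gl_eq_top fun x => eq_top_iff.2 fun v _ => ?_
  have hle : Gl S.X₃ x ≤ (Gl S.X₂ x).map (StalkModule.stalkMapₗ S.g x) := by
    rw [Gl, Submodule.span_le]
    rintro _ ⟨m, rfl⟩
    obtain ⟨m', rfl⟩ := hsurj m
    exact ⟨_, Submodule.subset_span ⟨m', rfl⟩, StalkModule.stalkMapₗ_germ S.g _ m'⟩
  obtain ⟨w, hw, hwv⟩ := hle (gl_eq_top_of_gg h₃ x ▸ Submodule.mem_top :
    StalkModule.stalkMapₗ S.g x v ∈ Gl S.X₃ x)
  obtain ⟨a, ha⟩ := (ShortComplex.ab_exact_iff _).1 ((Stalk.exact_iff_stalk S).1 hS x) (v - w)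
    (show StalkModule.stalkMapₗ S.g x (v - w) = 0 by rw [map_sub, hwv, sub_self])
  have hmem : StalkModule.stalkMapₗ S.f x a ∈ Gl S.X₂ x :=
    map_gl_le S.f x ⟨a, gl_eq_top_of_gg h₁ x ▸ Submodule.mem_top, rfl⟩
  have : v = StalkModule.stalkMapₗ S.f x a + w :=
    (eq_add_of_sub_eq (show v - w = StalkModule.stalkMapₗ S.f x a from ha.symm))
  exact this ▸ Submodule.add_mem _ hmem hw

/-- A finite coproduct of globally generated modules is globally generated. -/
theorem gg_sigma {n : ℕ} (F : Fin n → X.Modules) (h : ∀ i, Curv2.IsGloballyGenerated (F i)) :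
    Curv2.IsGloballyGenerated (∐ F) := by
  refine gg_of_gl_eq_top fun x => eq_top_iff.2 fun v _ => ?_
  rw [← Submodule.Quotient.mk_eq_zero]
  let q : AddCommGrpCat.of ((∐ F).presheaf.stalk x) ⟶
      AddCommGrpCat.of ((∐ F).presheaf.stalk x ⧸ Gl (∐ F) x) :=
    AddCommGrpCat.ofHom (Gl (∐ F) x).mkQ.toAddMonoidHom
  suffices hq : q = 0 from ConcreteCategory.congr_hom hq v
  haveI : PreservesColimitsOfShape (Discrete (Fin n)) (Stalk.stalkFunctor X x) :=
    PreservesFiniteCoproducts.preserves _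
  apply (isColimitOfPreserves (Stalk.stalkFunctor X x)
    (colimit.isColimit (Discrete.functor F))).hom_ext
  rintro ⟨i⟩
  ext w
  refine (Submodule.Quotient.mk_eq_zero (Gl (∐ F) x)).mpr (?_ : _ ∈ Gl (∐ F) x)
  exact map_gl_le (Sigma.ι F i) x ⟨w, gl_eq_top_of_gg (h i) x ▸ Submodule.mem_top, rfl⟩

/-- Locally, finitely many sections of a finite locally free module span the stalks. -/
theorem exists_local_span (hM : FlatMod.IsFinLocFree M) (x : X) :
    ∃ (V : X.Opens) (n : ℕ) (t : Fin n → Γ(M, V)), x ∈ V ∧ ∀ (y : X) (hy : y ∈ V),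
      Submodule.span (X.presheaf.stalk y) (Set.range fun j => M.presheaf.germ V y hy (t j)) = ⊤ := by
  obtain ⟨U, n, hxU, ⟨e⟩⟩ := hM x
  let t : Fin n → Γ(M, U.ι ''ᵁ ⊤) := fun j => e.inv.app ⊤ (Free.gen (U : Scheme.{u}) j)
  refine ⟨U.ι ''ᵁ ⊤, n, t, ⟨⟨x, hxU⟩, trivial, rfl⟩, fun y hy => ?_⟩
  obtain ⟨z, -, rfl⟩ := hy
  have h := congrArg (Submodule.map (StalkModule.stalkMapₗ e.inv z))
    (Free.span_germ_gen (n := n) (X := (U : Scheme.{u})) z)
  rw [Submodule.map_span, ← Set.range_comp, Submodule.map_top,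
    LinearMap.range_eq_top.2 ((StalkModule.epi_iff_stalkMapₗ_surjective e.inv).1 inferInstance z)] at h
  have h' := StalkRestrict.span_image_restrictStalkAddEquiv U.ι M z (Set.range fun j =>
    (M.restrict U.ι).presheaf.germ ⊤ z trivial (t j))
  rw [show (fun j => (M.restrict U.ι).presheaf.germ ⊤ z trivial (t j)) =
    ⇑(StalkModule.stalkMapₗ e.inv z) ∘ fun i =>
      (FlatMod.freeMod (U : Scheme.{u}) n).presheaf.germ ⊤ z trivial (Free.gen _ i) from
      funext fun j => (StalkModule.stalkMapₗ_germ e.inv _ _).symm] at h'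
  rw [h, Submodule.top_coe, Set.image_univ_of_surjective
    (StalkRestrict.restrictStalkAddEquiv U.ι M z).surjective] at h'
  refine eq_top_iff.mpr fun w _ => ?_
  refine Submodule.span_mono ?_ (SetLike.mem_coe.mp ((Set.ext_iff.mp h' w).mpr trivial))
  rintro _ ⟨_, ⟨j, rfl⟩, rfl⟩
  refine ⟨j, ?_⟩
  exact (StalkRestrict.restrictStalkAddEquiv_germ U.ι M (U := ⊤) trivial (t j)).symm.trans
    (congrArg (StalkRestrict.restrictStalkAddEquiv U.ι M z) (StalkModule.stalkMapₗ_germ e.inv _ _).symm)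

theorem exists_finite_span_nhd (hM : FlatMod.IsFinLocFree M) (h : Curv2.IsGloballyGenerated M)
    (x : X) : ∃ (W : X.Opens) (T : Finset Γ(M, ⊤)), x ∈ W ∧ ∀ y ∈ W,
      Submodule.span (X.presheaf.stalk y) ((fun m => M.presheaf.germ ⊤ y trivial m) '' T) = ⊤ := by
  classical
  obtain ⟨V, n, t, hxV, ht⟩ := exists_local_span hM x
  have hj : ∀ j, ∃ (W : X.Opens) (T : Finset Γ(M, ⊤)), x ∈ W ∧ ∀ y (hy : y ∈ V), y ∈ W →
      M.presheaf.germ V y hy (t j) ∈
        Submodule.span (X.presheaf.stalk y) ((fun m => M.presheaf.germ ⊤ y trivial m) '' T) := by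
    intro j
    have hmem : M.presheaf.germ V x hxV (t j) ∈ Gl M x := gl_eq_top_of_gg h x ▸ Submodule.mem_top
    obtain ⟨c, hc⟩ := Finsupp.mem_span_range_iff_exists_finsupp.1 hmem
    choose O hO r hr using fun m : c.support => TopCat.Presheaf.exists_germ_eq X.presheaf (c m)
    let W₀ : X.Opens := V ⊓ Finset.univ.inf O
    have hxW : x ∈ W₀ := by
      refine ⟨hxV, ?_⟩
      rw [Opens.coe_finset_inf, Finset.inf_set_eq_iInter]
      simpa using hO
    have hle : ∀ m, W₀ ≤ O m := fun m => inf_le_right.trans (Finset.inf_le (Finset.mem_univ m))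
    let s' : Γ(M, W₀) := ∑ m : c.support, X.presheaf.map (homOfLE (hle m)).op (r m) •
      M.presheaf.map (homOfLE (le_top : W₀ ≤ ⊤)).op (m : Γ(M, ⊤))
    have hgerm : ∀ y (hy : y ∈ W₀), M.presheaf.germ W₀ y hy s' = ∑ m : c.support,
        X.presheaf.germ (O m) y (hle m hy) (r m) • M.presheaf.germ ⊤ y trivial (m : Γ(M, ⊤)) := by
      intro y hy
      rw [map_sum]
      refine Finset.sum_congr rfl fun m _ => ?_
      rw [StalkModule.germ_smul, TopCat.Presheaf.germ_res_apply, TopCat.Presheaf.germ_res_apply]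
    have heq : M.presheaf.germ W₀ x hxW s' = M.presheaf.germ V x hxV (t j) := by
      rw [hgerm x hxW, ← hc, Finsupp.sum, ← Finset.sum_coe_sort c.support]
      exact Finset.sum_congr rfl fun m _ => by rw [hr m]
    obtain ⟨W, hxW', i₁, i₂, hW⟩ := TopCat.Presheaf.germ_eq M.presheaf x hxW hxV _ _ heq
    refine ⟨W, c.support, hxW', fun y hy hyW => ?_⟩
    rw [← TopCat.Presheaf.germ_res_apply M.presheaf i₂ y hyW (t j), ← hW,
      TopCat.Presheaf.germ_res_apply, hgerm y (i₁.le hyW)]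
    exact Submodule.sum_mem _ fun m _ =>
      Submodule.smul_mem _ _ (Submodule.subset_span ⟨m, m.2, rfl⟩)
  choose W T hxW hT using hj
  refine ⟨V ⊓ Finset.univ.inf W, Finset.univ.biUnion T, ⟨hxV, ?_⟩, fun y ⟨hyV, hyW⟩ => ?_⟩
  · rw [Opens.coe_finset_inf, Finset.inf_set_eq_iInter]
    simpa using hxW
  refine eq_top_iff.2 ((ht y hyV).ge.trans (Submodule.span_le.2 ?_))
  rintro _ ⟨j, rfl⟩
  exact Submodule.span_mono (Set.image_mono (Finset.coe_subset.2
    (Finset.subset_biUnion_of_mem T (Finset.mem_univ j))))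
    (hT j y hyV ((Finset.inf_le (Finset.mem_univ j) : Finset.univ.inf W ≤ W j) hyW))

/-- A globally generated finite locally free module on a compact scheme is a quotient of a finite
free module. -/
theorem exists_free_epi [CompactSpace X] (hM : FlatMod.IsFinLocFree M)
    (h : Curv2.IsGloballyGenerated M) :
    ∃ (n : ℕ) (p : FlatMod.freeMod X n ⟶ M), Epi p := by
  classical
  choose W T hxW hT using exists_finite_span_nhd hM h
  obtain ⟨S, hS⟩ := isCompact_univ.elim_finite_subcover (fun x : X => (W x : Set X))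
    (fun x => (W x).2) fun x _ => Set.mem_iUnion.2 ⟨x, hxW x⟩
  let e := (S.biUnion T).equivFin
  refine ⟨_, Free.freeHom fun i => ((e.symm i : _) : Γ(M, ⊤)), (Stalk.epi_iff_stalk_surjective _).2 ?_⟩
  intro y v
  obtain ⟨x, hxS, hy⟩ := Set.mem_iUnion₂.1 (hS (Set.mem_univ y))
  suffices hle : Submodule.span (X.presheaf.stalk y)
      ((fun m => M.presheaf.germ ⊤ y trivial m) '' (T x : Set Γ(M, ⊤))) ≤
      LinearMap.range (StalkModule.stalkMapₗ (Free.freeHom fun i => ((e.symm i : _) : Γ(M, ⊤))) y) by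
    exact hle (hT x y hy ▸ Submodule.mem_top)
  rw [Submodule.span_le]
  rintro _ ⟨m, hm, rfl⟩
  refine ⟨_, (Free.freeHom_stalk_germ _ y (e ⟨m, Finset.mem_biUnion.2 ⟨x, hxS, hm⟩⟩)).trans ?_⟩
  rw [Equiv.symm_apply_apply]

end Groth.Agent.H34.GlobGen
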