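import Groth.Agent.H34.VanishOne
import Groth.Agent.Lib.Modules.Stalk
import Groth.Agent.Lib.TensorMod.Colimit
import Groth.Agent.Lib.DerivedOX.TensorStalk
import Mathlib.Algebra.Homology.DerivedCategory.Ext.ExactSequences
import Mathlib.AlgebraicGeometry.Properties

/-!
First cohomology of modules on noetherian schemes of dimension at most one.
-/

universe u

open CategoryTheory CategoryTheory.Limits CategoryTheory.Abelian AlgebraicGeometry Opposite
  TopologicalSpace

namespace Groth.Agent.H34.HOne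

open Lib.Modules

variable {X : Scheme.{u}}

/-- The underlying abelian sheaf, as a functor. -/
noncomputable abbrev ab (X : Scheme.{u}) :
    X.Modules ⥤ Sheaf (Opens.grothendieckTopology X) AddCommGrpCat.{u} :=
  SheafOfModules.toSheaf X.ringCatSheaf

instance ab_additive : (ab X).Additive :=
  inferInstanceAs (SheafOfModules.toSheaf X.ringCatSheaf).Additive

instance ab_preservesFiniteLimits : PreservesFiniteLimits (ab X) :=
  inferInstanceAs (PreservesFiniteLimits (SheafOfModules.toSheaf X.ringCatSheaf))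

instance ab_preservesFiniteColimits : PreservesFiniteColimits (ab X) :=
  inferInstanceAs (PreservesFiniteColimits (SheafOfModules.toSheaf X.ringCatSheaf))

theorem shortExact_toAb {S : ShortComplex X.Modules} (hS : S.ShortExact) :
    (S.map (ab X)).ShortExact :=
  hS.map_of_exact _

/-- `H¹ = 0` for the left term makes global sections surjective. -/
theorem app_top_surjective {S : ShortComplex X.Modules} (hS : S.ShortExact)
    (h₁ : Subsingleton (Coh.HH X S.X₁ 1)) : Function.Surjective (S.g.app ⊤) := by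
  intro s
  have hS' := shortExact_toAb hS
  let T := S.map (ab X)
  let y := (Lib.ZarCoh.Basic.constEquiv T.X₃).symm (show T.X₃.obj.obj (op ⊤) from s)
  obtain ⟨x, hx⟩ := Ext.covariant_sequence_exact₃ _ hS' (Ext.mk₀ y) (zero_add 1) (h₁.elim _ _)
  obtain ⟨x, rfl⟩ := (Ext.mk₀_bijective _ _).2 x
  rw [Ext.mk₀_comp_mk₀] at hx
  have := (Ext.mk₀_bijective _ _).1 hx
  refine ⟨Lib.ZarCoh.Basic.constEquiv T.X₂ x, ?_⟩
  have h2 := Lib.ZarCoh.Basic.constEquiv_comp x T.g
  rw [this, Equiv.apply_symm_apply] at h2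
  exact h2.symm

section General

variable {C : Type*} [Category C] [Abelian C] [HasExt.{u} C] (P : C) (n : ℕ)

theorem ext_mid {S : ShortComplex C} (hS : S.ShortExact)
    (h₁ : Subsingleton (Ext.{u} P S.X₁ n)) (h₃ : Subsingleton (Ext.{u} P S.X₃ n)) :
    Subsingleton (Ext.{u} P S.X₂ n) := by
  refine subsingleton_of_forall_eq 0 fun ξ => ?_
  obtain ⟨y, rfl⟩ := Ext.covariant_sequence_exact₂ _ hS ξ (h₃.elim _ _)
  rw [h₁.elim y 0, Ext.zero_comp]

theorem ext_right {S : ShortComplex C} (hS : S.ShortExact)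
    (h₁ : Subsingleton (Ext.{u} P S.X₁ (n + 1))) (h₂ : Subsingleton (Ext.{u} P S.X₂ n)) :
    Subsingleton (Ext.{u} P S.X₃ n) := by
  refine subsingleton_of_forall_eq 0 fun ξ => ?_
  obtain ⟨x, rfl⟩ := Ext.covariant_sequence_exact₃ _ hS ξ rfl (h₁.elim _ _)
  rw [h₂.elim x 0, Ext.zero_comp]

theorem ext_of_iso {M N : C} (e : M ≅ N) (h : Subsingleton (Ext.{u} P M n)) :
    Subsingleton (Ext.{u} P N n) := by
  refine subsingleton_of_forall_eq 0 fun ξ => ?_
  have hξ : ξ = (ξ.comp (Ext.mk₀ e.inv) (add_zero n)).comp (Ext.mk₀ e.hom) (add_zero n) := by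
    rw [Ext.comp_assoc_of_second_deg_zero, Ext.mk₀_comp_mk₀, e.inv_hom_id, Ext.comp_mk₀_id]
  rw [hξ, h.elim (ξ.comp (Ext.mk₀ e.inv) (add_zero n)) 0, Ext.zero_comp]

theorem ext_of_sum {J : Type*} (T : Finset J) {M : C} {F : J → C} (π : ∀ i, M ⟶ F i)
    (ι : ∀ i, F i ⟶ M) (hid : 𝟙 M = ∑ i ∈ T, π i ≫ ι i)
    (h : ∀ i, Subsingleton (Ext.{u} P (F i) n)) : Subsingleton (Ext.{u} P M n) := by
  refine subsingleton_of_forall_eq 0 fun ξ => ?_
  let g : (M ⟶ M) →+ Ext.{u} P M n :=
    AddMonoidHom.mk' (fun f => ξ.comp (Ext.mk₀ f) (add_zero n))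
      fun f f' => by rw [Ext.mk₀_add, Ext.comp_add]
  have : ξ = g (𝟙 M) := (Ext.comp_mk₀_id ξ).symm
  rw [this, hid, map_sum]
  refine Finset.sum_eq_zero fun i _ => ?_
  show ξ.comp (Ext.mk₀ (π i ≫ ι i)) (add_zero n) = 0
  rw [← Ext.mk₀_comp_mk₀, ← Ext.comp_assoc_of_second_deg_zero,
    (h i).elim (ξ.comp (Ext.mk₀ (π i)) (add_zero n)) 0, Ext.zero_comp]

end General

/-- `H¹` of an extension. -/
theorem h1_of_shortExact {S : ShortComplex X.Modules} (hS : S.ShortExact)
    (h₁ : Subsingleton (Coh.HH X S.X₁ 1)) (h₃ : Subsingleton (Coh.HH X S.X₃ 1)) :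
    Subsingleton (Coh.HH X S.X₂ 1) :=
  ext_mid.{u} (C := Sheaf (Opens.grothendieckTopology X) AddCommGrpCat.{u}) _ 1 (S := S.map (ab X)) (shortExact_toAb hS) h₁ h₃

theorem h1_of_iso {M N : X.Modules} (e : M ≅ N) (h : Subsingleton (Coh.HH X M 1)) :
    Subsingleton (Coh.HH X N 1) :=
  ext_of_iso.{u} _ 1 ((ab X).mapIso e) h

/-- `H¹` of a finite coproduct. -/
theorem h1_sigma {n : ℕ} (F : Fin n → X.Modules) (h : ∀ i, Subsingleton (Coh.HH X (F i) 1)) :
    Subsingleton (Coh.HH X (∐ F) 1) := by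
  haveI : HasFiniteBiproducts X.Modules := HasFiniteBiproducts.of_hasFiniteCoproducts
  refine h1_of_iso (biproduct.isoCoproduct F) ?_
  refine ext_of_sum.{u} _ 1 Finset.univ (fun i => (ab X).map (biproduct.π F i))
    (fun i => (ab X).map (biproduct.ι F i)) ?_ h
  simp only [← Functor.map_comp, ← Functor.map_sum, biproduct.total]
  exact ((ab X).map_id _).symm

theorem ext_left {C : Type*} [Category C] [Abelian C] [HasExt.{u} C] (P : C)
    {S : ShortComplex C} (hS : S.ShortExact) (h₂ : Subsingleton (Ext.{u} P S.X₂ 1))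
    (hlift : ∀ y : P ⟶ S.X₃, ∃ x : P ⟶ S.X₂, x ≫ S.g = y) :
    Subsingleton (Ext.{u} P S.X₁ 1) := by
  refine subsingleton_of_forall_eq 0 fun ξ => ?_
  obtain ⟨y, rfl⟩ := Ext.covariant_sequence_exact₁ _ hS ξ (h₂.elim _ _) (zero_add 1)
  obtain ⟨y, rfl⟩ := (Ext.mk₀_bijective _ _).2 y
  obtain ⟨x, rfl⟩ := hlift y
  rw [← Ext.mk₀_comp_mk₀, Ext.comp_assoc_of_second_deg_zero, hS.comp_extClass, Ext.comp_zero]

/-- `H¹` of a kernel. -/
theorem h1_of_surjective {S : ShortComplex X.Modules} (hS : S.ShortExact)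
    (h₂ : Subsingleton (Coh.HH X S.X₂ 1)) (hsurj : Function.Surjective (S.g.app ⊤)) :
    Subsingleton (Coh.HH X S.X₁ 1) := by
  refine ext_left.{u} (C := Sheaf (Opens.grothendieckTopology X) AddCommGrpCat.{u}) _
    (S := S.map (ab X)) (shortExact_toAb hS) h₂ fun y => ?_
  obtain ⟨x, hx⟩ := hsurj (show Γ(S.X₃, ⊤) from Lib.ZarCoh.Basic.constEquiv (S.map (ab X)).X₃ y)
  refine ⟨(Lib.ZarCoh.Basic.constEquiv (S.map (ab X)).X₂).symm x,
    (Lib.ZarCoh.Basic.constEquiv (S.map (ab X)).X₃).injective ?_⟩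
  rw [Lib.ZarCoh.Basic.constEquiv_comp, Equiv.apply_symm_apply]
  exact hx

variable [IsLocallyNoetherian X] [CompactSpace X] (hdim : topologicalKrullDim X ≤ 1)

include hdim

theorem h2_subsingleton (M : X.Modules) : Subsingleton (Coh.HH X M 2) := by
  haveI : IsNoetherian X := { }
  haveI : NoetherianSpace (X.toTopCat : Type u) := inferInstanceAs (NoetherianSpace X)
  exact VanishOne.H_subsingleton hdim (Coh.toAb M) 0

/-- `H¹` is right exact. -/
theorem h1_of_epi {M N : X.Modules} (φ : M ⟶ N) [Epi φ] (h : Subsingleton (Coh.HH X M 1)) :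
    Subsingleton (Coh.HH X N 1) := by
  let S : ShortComplex X.Modules := ShortComplex.mk (kernel.ι φ) φ (kernel.condition φ)
  have hS : S.ShortExact :=
    { exact := ShortComplex.exact_of_f_is_kernel _ (kernelIsKernel φ)
      mono_f := inferInstanceAs (Mono (kernel.ι φ))
      epi_g := inferInstanceAs (Epi φ) }
  exact ext_right.{u} (C := Sheaf (Opens.grothendieckTopology X) AddCommGrpCat.{u}) _ 1 (S := S.map (ab X)) (shortExact_toAb hS) (h2_subsingleton hdim S.X₁) h

/-- `H¹` of the middle term of a right exact sequence. -/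
theorem h1_of_exact {S : ShortComplex X.Modules} (hS : S.Exact) [Epi S.g]
    (h₁ : Subsingleton (Coh.HH X S.X₁ 1)) (h₃ : Subsingleton (Coh.HH X S.X₃ 1)) :
    Subsingleton (Coh.HH X S.X₂ 1) := by
  let T : ShortComplex X.Modules := ShortComplex.mk (kernel.ι S.g) S.g (kernel.condition S.g)
  have hT : T.ShortExact :=
    { exact := ShortComplex.exact_of_f_is_kernel _ (kernelIsKernel S.g)
      mono_f := inferInstanceAs (Mono (kernel.ι S.g))
      epi_g := inferInstanceAs (Epi S.g) }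
  haveI : Epi (kernel.lift S.g S.f S.zero) := hS.epi_kernelLift
  exact h1_of_shortExact (S := T) hT (h1_of_epi hdim (kernel.lift S.g S.f S.zero) h₁) h₃

omit hdim [IsLocallyNoetherian X] [CompactSpace X] in
/-- Tensoring is right exact. -/
theorem exact_tensor (N : X.Modules) {S : ShortComplex X.Modules} (hS : S.Exact) [Epi S.g] :
    ((Lib.TensorMod.Basic.tensorBy N).map S.f ≫ (Lib.TensorMod.Basic.tensorBy N).map S.g = 0) ∧
    ∀ w, (ShortComplex.mk ((Lib.TensorMod.Basic.tensorBy N).map S.f)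
      ((Lib.TensorMod.Basic.tensorBy N).map S.g) w).Exact ∧
      Epi ((Lib.TensorMod.Basic.tensorBy N).map S.g) := by
  let F := Lib.TensorMod.Basic.tensorBy N
  haveI : PreservesColimitsOfSize.{0, 0} F := preservesSmallestColimits_of_preservesColimits F
  haveI : PreservesFiniteColimits F := PreservesColimitsOfSize.preservesFiniteColimits F
  haveI : PreservesBinaryBiproducts F := preservesBinaryBiproducts_of_preservesBinaryCoproducts F
  haveI : F.Additive := Functor.additive_of_preservesBinaryBiproducts F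
  refine ⟨by rw [← Functor.map_comp, S.zero, F.map_zero], fun w => ?_⟩
  have htfae := (F.preservesFiniteColimits_tfae.out 3 1 :
    PreservesFiniteColimits F ↔ ∀ S : ShortComplex X.Modules, S.Exact ∧ Epi S.g →
      (S.map F).Exact ∧ Epi (F.map S.g))
  exact htfae.1 inferInstance S ⟨hS, ‹Epi S.g›⟩

omit hdim [IsLocallyNoetherian X] [CompactSpace X] in
theorem epi_tensor (N : X.Modules) {M M' : X.Modules} (φ : M ⟶ M') [Epi φ] :
    Epi ((Lib.TensorMod.Basic.tensorBy N).map φ) := by
  haveI : PreservesColimitsOfSize.{0, 0} (Lib.TensorMod.Basic.tensorBy N) :=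
    preservesSmallestColimits_of_preservesColimits _
  infer_instance

end Groth.Agent.H34.HOne
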