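import Groth.Agent.H34.HOne
import Groth.Agent.H34.GlobGen
import Groth.Agent.Lib.TensorMod.LocFree
import Groth.Prelude.Def_CurvBase

/-!
Globally generated modules and `H¹` on curves with `H¹(O) = 0`.
-/

universe u

open CategoryTheory CategoryTheory.Limits AlgebraicGeometry Opposite TopologicalSpace

namespace Groth.Agent.H34.DefAmple

variable {B : Scheme.{u}}

theorem isLocallyNoetherian_of_proper {k : Type u} [Field k] (p : B ⟶ Spec (CommRingCat.of k))
    [IsProper p] : IsLocallyNoetherian B :=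
  LocallyOfFiniteType.isLocallyNoetherian p

theorem compactSpace_of_proper {k : Type u} [Field k] (p : B ⟶ Spec (CommRingCat.of k))
    [IsProper p] : CompactSpace B :=
  QuasiCompact.compactSpace_of_compactSpace p

variable [IsLocallyNoetherian B] [CompactSpace B] (hdim : topologicalKrullDim B ≤ 1)
  (hg : Subsingleton (Coh.HH B (Coh.structureModule B) 1))

include hdim hg

/-- Globally generated finite locally free modules have no first cohomology. -/
theorem h1_of_gg {E : B.Modules} (hE : FlatMod.IsFinLocFree E) (h : Curv2.IsGloballyGenerated E) :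
    Subsingleton (Coh.HH B E 1) := by
  obtain ⟨n, p, hp⟩ := GlobGen.exists_free_epi hE h
  exact HOne.h1_of_epi hdim p (HOne.h1_sigma _ fun _ => hg)

omit hg in
/-- The deformation-ampleness vanishing for a quotient by a tensor twist. -/
theorem h1_tensor_of_exact (N : B.Modules) {S : ShortComplex B.Modules} (hS : S.Exact) [Epi S.g]
    (h₁ : Subsingleton (Coh.HH B (CohB1.tensorMod S.X₁ N) 1))
    (h₃ : Subsingleton (Coh.HH B (CohB1.tensorMod S.X₃ N) 1)) :
    Subsingleton (Coh.HH B (CohB1.tensorMod S.X₂ N) 1) := by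
  obtain ⟨w, h⟩ := HOne.exact_tensor N hS
  obtain ⟨h, hepi⟩ := h w
  haveI : Epi (ShortComplex.mk _ _ w).g := hepi
  exact HOne.h1_of_exact hdim h h₁ h₃

/-- Extensions of deformation ample modules. -/
theorem gg_of_shortExact {S : ShortComplex B.Modules} (hS : S.ShortExact)
    (hE₁ : FlatMod.IsFinLocFree S.X₁) (h₁ : Curv2.IsGloballyGenerated S.X₁)
    (h₃ : Curv2.IsGloballyGenerated S.X₃) : Curv2.IsGloballyGenerated S.X₂ :=
  GlobGen.gg_of_exact S hS.exact (HOne.app_top_surjective hS (h1_of_gg hdim hg hE₁ h₁)) h₁ h₃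

omit hdim hg [IsLocallyNoetherian B] [CompactSpace B] in
theorem h1_tensor_iso (N : B.Modules) {M E : B.Modules} (e : M ≅ E)
    (h : Subsingleton (Coh.HH B (CohB1.tensorMod E N) 1)) :
    Subsingleton (Coh.HH B (CohB1.tensorMod M N) 1) :=
  HOne.h1_of_iso (M := (Lib.TensorMod.Basic.tensorBy N).obj E)
    (N := (Lib.TensorMod.Basic.tensorBy N).obj M) ((Lib.TensorMod.Basic.tensorBy N).mapIso e.symm) h

omit hdim hg [IsLocallyNoetherian B] [CompactSpace B] in
theorem h1_map_sigma (T : B.Modules ⥤ B.Modules) [PreservesColimitsOfSize.{u, u} T] (m : ℕ)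
    (P : B.Modules) (h : Subsingleton (Coh.HH B (T.obj P) 1)) :
    Subsingleton (Coh.HH B (T.obj (∐ fun _ : Fin m => P)) 1) :=
  haveI : PreservesColimitsOfSize.{0, 0} T := preservesSmallestColimits_of_preservesColimits T
  haveI : PreservesColimitsOfShape (Discrete (Fin m)) T := inferInstance
  HOne.h1_of_iso (PreservesCoproduct.iso T _).symm
    (HOne.h1_sigma (fun _ : Fin m => T.obj P) fun _ => h)

omit hdim hg [IsLocallyNoetherian B] [CompactSpace B] in
theorem tensorBy_obj (N M : B.Modules) :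
    (Lib.TensorMod.Basic.tensorBy N).obj M = CohB1.tensorMod M N := rfl

omit hdim hg [IsLocallyNoetherian B] [CompactSpace B] in
/-- `P ⊗ E` is a quotient of a finite sum of copies of `P` when `E` is finitely generated. -/
theorem exists_epi_tensor (P : B.Modules) {E : B.Modules} {m : ℕ} (p : FlatMod.freeMod B m ⟶ E)
    [Epi p] : ∃ q : (∐ fun _ : Fin m => P) ⟶ CohB1.tensorMod P E, Epi q := by
  let T : B.Modules ⥤ B.Modules := (Lib.TensorMod.Basic.tensorFunctor B).obj P
  haveI : PreservesColimitsOfSize.{0, 0} T := preservesSmallestColimits_of_preservesColimits T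
  haveI : PreservesColimitsOfShape (Discrete (Fin m)) T := inferInstance
  let e₁ : T.obj (FlatMod.freeMod B m) ≅ ∐ fun _ : Fin m => P :=
    PreservesCoproduct.iso T _ ≪≫ Sigma.mapIso fun _ => Lib.TensorMod.Basic.rightUnit P
  exact ⟨e₁.inv ≫ T.map p, @epi_comp _ _ _ _ _ e₁.inv inferInstance (T.map p) inferInstance⟩

omit hg in
theorem step (N P : B.Modules) {E : B.Modules} {m : ℕ} (p : FlatMod.freeMod B m ⟶ E) [Epi p]
    (hgg : Curv2.IsGloballyGenerated P) (hh : Subsingleton (Coh.HH B (CohB1.tensorMod P N) 1)) :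
    Curv2.IsGloballyGenerated (CohB1.tensorMod P E) ∧
      Subsingleton (Coh.HH B (CohB1.tensorMod (CohB1.tensorMod P E) N) 1) := by
  obtain ⟨q, hq⟩ := exists_epi_tensor P p
  refine ⟨GlobGen.gg_of_epi q (GlobGen.gg_sigma _ fun _ => hgg), ?_⟩
  rw [← tensorBy_obj] at hh
  rw [← tensorBy_obj]
  haveI := HOne.epi_tensor N q
  exact HOne.h1_of_epi hdim ((Lib.TensorMod.Basic.tensorBy N).map q)
    (h1_map_sigma (Lib.TensorMod.Basic.tensorBy N) m P hh)

omit hg in
/-- Tensor powers. -/
theorem tensorPow_succ (N : B.Modules) {E : B.Modules} (hE : FlatMod.IsFinLocFree E)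
    (h : Curv2.IsGloballyGenerated E) (hN : Subsingleton (Coh.HH B (CohB1.tensorMod E N) 1)) :
    ∀ n, Curv2.IsGloballyGenerated (CohB1.tensorPow E (n + 1)) ∧
      Subsingleton (Coh.HH B (CohB1.tensorMod (CohB1.tensorPow E (n + 1)) N) 1) := by
  obtain ⟨m, p, hp⟩ := GlobGen.exists_free_epi hE h
  haveI : Epi p := hp
  intro n
  induction n with
  | zero =>
    exact ⟨@GlobGen.gg_of_epi B E (CohB1.tensorPow E 1) (Lib.TensorMod.Basic.leftUnit E).inv
      (IsIso.epi_of_iso (Lib.TensorMod.Basic.leftUnit E).inv) h,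
      h1_tensor_iso N (Lib.TensorMod.Basic.leftUnit E) hN⟩
  | succ n ih => exact step hdim N (CohB1.tensorPow E (n + 1)) p ih.1 ih.2

end Groth.Agent.H34.DefAmple

namespace Groth.Agent.H34.DefAmple

variable {B : Scheme.{u}} {C : B.Modules}

/-- The stalks of a tensor product vanish where one factor has vanishing stalk. -/
theorem subsingleton_stalk_tensor (N : B.Modules) {x : B} (h : Subsingleton (C.presheaf.stalk x)) :
    Subsingleton ((CohB1.tensorMod C N).presheaf.stalk x) := by
  let P : CohB1.PMod B := (Lib.TensorMod.Basic.fgt B).obj C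
  let Q : CohB1.PMod B := (Lib.TensorMod.Basic.fgt B).obj N
  let η := (PresheafOfModules.toPresheaf _).map
    ((Lib.TensorMod.Basic.adj B).unit.app (MonoidalCategory.tensorObj P Q))
  haveI : Subsingleton (Lib.DerivedOX.TensorStalk.st x P) := h
  haveI : Subsingleton (Lib.DerivedOX.TensorStalk.st x (MonoidalCategory.tensorObj P Q)) :=
    (Lib.DerivedOX.TensorStalk.tensorStalkEquiv x P Q).toEquiv.subsingleton
  have hs : Function.Surjective ((TopCat.Presheaf.stalkFunctor AddCommGrpCat.{u} x).map η) :=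
    TopCat.Presheaf.locally_surjective_iff_surjective_on_stalks η |>.1
      (Lib.TensorMod.Basic.isLocBij_unit _).2 x
  exact @Function.Surjective.subsingleton _ _ _
    (inferInstanceAs (Subsingleton (Lib.DerivedOX.TensorStalk.st x (MonoidalCategory.tensorObj P Q)))) hs

variable [IsLocallyNoetherian B] [CompactSpace B]

theorem isFlasque_toAb (hC : ∀ x, ¬ IsClosed ({x} : Set B) → Subsingleton (C.presheaf.stalk x)) :
    TopCat.Sheaf.IsFlasque (X := B.toTopCat) (Coh.toAb C) := by
  haveI : IsNoetherian B := { }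
  haveI : NoetherianSpace (B.toTopCat : Type u) := inferInstanceAs (NoetherianSpace B)
  haveI : QuasiSober (B.toTopCat : Type u) := inferInstanceAs (QuasiSober B)
  refine VanishOne.isFlasque_of_isZero_stalk_of_not_isClosed (X := B.toTopCat) _ fun x hx => ?_
  exact @AddCommGrpCat.isZero_of_subsingleton _ (hC x hx)

theorem h1_of_torsion (hC : ∀ x, ¬ IsClosed ({x} : Set B) → Subsingleton (C.presheaf.stalk x)) :
    Subsingleton (Coh.HH B C 1) :=
  @Lib.ZarCoh.Basic.H_flasque B.toTopCat (Coh.toAb C) (isFlasque_toAb hC) 0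

theorem gg_of_torsion (hC : ∀ x, ¬ IsClosed ({x} : Set B) → Subsingleton (C.presheaf.stalk x)) :
    Curv2.IsGloballyGenerated C := by
  haveI := isFlasque_toAb hC
  refine GlobGen.gg_of_gl_eq_top fun x => eq_top_iff.2 fun v _ => ?_
  obtain ⟨U, hx, m, rfl⟩ := TopCat.Presheaf.exists_germ_eq _ v
  obtain ⟨m', hm'⟩ := Lib.ZarCoh.Basic.flasque_surjective (X := B.toTopCat) (Coh.toAb C)
    (le_top : U ≤ ⊤) m
  refine Submodule.subset_span ⟨(show Γ(C, ⊤) from m'), ?_⟩
  exact (TopCat.Presheaf.germ_res_apply C.presheaf (homOfLE (le_top : U ≤ ⊤)) x hx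
    (show Γ(C, ⊤) from m')).symm.trans (congrArg (C.presheaf.germ U x hx) hm')

variable (hdim : topologicalKrullDim B ≤ 1) (hg : Subsingleton (Coh.HH B (Coh.structureModule B) 1))

include hdim hg in
/-- Modules receiving a deformation ample module with torsion cokernel. -/
theorem defAmple_of_torsion (N : B.Modules) {E₁ E₂ : B.Modules} (φ : E₁ ⟶ E₂)
    (hC : ∀ x, ¬ IsClosed ({x} : Set B) → Subsingleton ((cokernel φ).presheaf.stalk x))
    (hE₁ : FlatMod.IsFinLocFree E₁) (h₁ : Curv2.IsGloballyGenerated E₁)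
    (hN : Subsingleton (Coh.HH B (CohB1.tensorMod E₁ N) 1)) :
    Curv2.IsGloballyGenerated E₂ ∧ Subsingleton (Coh.HH B (CohB1.tensorMod E₂ N) 1) := by
  let T : ShortComplex B.Modules := ShortComplex.mk φ (cokernel.π φ) (cokernel.condition φ)
  have hT : T.Exact := ShortComplex.exact_of_g_is_cokernel _ (cokernelIsCokernel φ)
  haveI : Epi T.g := inferInstanceAs (Epi (cokernel.π φ))
  have h3 : Subsingleton (Coh.HH B (CohB1.tensorMod (cokernel φ) N) 1) :=
    h1_of_torsion fun x hx => subsingleton_stalk_tensor N (hC x hx)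
  refine ⟨?_, h1_tensor_of_exact (S := T) hdim N hT hN h3⟩
  let S : ShortComplex B.Modules :=
    ShortComplex.mk (kernel.ι T.g) T.g (kernel.condition T.g)
  have hS : S.ShortExact :=
    { exact := ShortComplex.exact_of_f_is_kernel _ (kernelIsKernel T.g)
      mono_f := inferInstanceAs (Mono (kernel.ι T.g))
      epi_g := inferInstanceAs (Epi T.g) }
  haveI : Epi (kernel.lift T.g T.f T.zero) := hT.epi_kernelLift
  exact GlobGen.gg_of_exact S hS.exact (HOne.app_top_surjective hS
    (HOne.h1_of_epi hdim (kernel.lift T.g T.f T.zero) (h1_of_gg hdim hg hE₁ h₁)))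
    (GlobGen.gg_of_epi (kernel.lift T.g T.f T.zero) h₁) (gg_of_torsion hC)

end Groth.Agent.H34.DefAmple
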