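import Groth.Agent.H34.DegOneSection
import Groth.Agent.H56.DimBaseChange
import Groth.Agent.Lib.ExchangeFP29.FieldPoint
import Groth.Agent.Lib.HilbD.Sec
import Groth.Agent.Lib.RelDiv.Cartier
import Groth.Agent.Lib.Kaehler.SmoothChart
import Groth.Agent.Lib.DerivedOX.Grothendieck

/-!
# The Abel map of a curve is a monomorphism
-/

set_option autoImplicit false
set_option linter.style.haveILetI false
universe u

open CategoryTheory CategoryTheory.Limits AlgebraicGeometry Opposite TopologicalSpace

noncomputable section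

namespace Groth.Agent.H34.AbelMono

open Groth.Agent Groth.Agent.Lib

variable {C S : Scheme.{u}} (f : C ⟶ S)

/-- The dimension of the fibres is stable under base change. -/
theorem dim_fiber_baseChange [LocallyOfFiniteType f] {X' T : Scheme.{u}} {g : T ⟶ S} {g' : X' ⟶ C}
    {f' : X' ⟶ T} (h : IsPullback g' f' f g) (t : T) :
    topologicalKrullDim ↥(f'.fiber t) = topologicalKrullDim ↥(f.fiber (g t)) := by
  have hsq : IsPullback (f'.fiberι t ≫ g') (f'.fiberToSpecResidueField t) f
      (T.fromSpecResidueField t ≫ g) :=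
    (IsPullback.of_hasPullback f' (T.fromSpecResidueField t)).paste_horiz h
  rw [← Scheme.Hom.SpecMap_residueFieldMap_fromSpecResidueField g t] at hsq
  have hA : IsPullback (f.fiberι (g t)) (f.fiberToSpecResidueField (g t)) f
      (S.fromSpecResidueField (g t)) := IsPullback.of_hasPullback f (S.fromSpecResidueField (g t))
  let l : f'.fiber t ⟶ f.fiber (g t) := hA.lift (f'.fiberι t ≫ g')
    (f'.fiberToSpecResidueField t ≫ Spec.map (g.residueFieldMap t))
    (by rw [hsq.w, Category.assoc])
  have hl : IsPullback l (f'.fiberToSpecResidueField t) (f.fiberToSpecResidueField (g t))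
      (Spec.map (g.residueFieldMap t)) := by
    refine IsPullback.of_right ?_ (hA.lift_snd _ _ _) hA
    rw [hA.lift_fst]
    exact hsq
  exact @H56.DimBaseChange.topologicalKrullDim_baseChange _ _ _ _ _ _ (Spec.map (g.residueFieldMap t))
    (f.fiberToSpecResidueField (g t)) (f'.fiberToSpecResidueField t) l hl (MorphismProperty.pullback_snd _ _ ‹LocallyOfFiniteType f›)

section Smooth

variable [IsProper f] [Smooth f] [GeometricallyConnected f]
  (hdim : ∀ s : S, topologicalKrullDim ↥(f.fiber s) = 1)

attribute [local instance] CanonFam.fibOver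

include hdim in
/-- A smooth family of curves is smooth of relative dimension one. -/
theorem smooth_relDim_one : SmoothOfRelativeDimension 1 f := by
  refine ⟨fun x => ?_⟩
  obtain ⟨m, V, U, hV, hU, e, hx, hs⟩ := Kaehler.SmoothChart.exists_std_chart f x
  haveI := CanonFam.isIntegral f hdim (f x)
  have h : FlatMor.fibreDimAt f x = 1 := by
    show FlatMor.localDim (f.fiber (f x)) (f.asFiber x) = 1
    rw [JacCrit.OverField.localDim_eq_of_irreducible (K := S.residueField (f x))
      (f.fiber (f x) ↘ Spec (CommRingCat.of (S.residueField (f x)))) (f.asFiber x), hdim]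
  rw [Kaehler.SmoothChart.fibreDimAt_of_chart hV hU e hs hx] at h
  obtain rfl : m = 1 := by exact_mod_cast h
  exact ⟨V, hV, U, hU, hx, e, hs⟩

include hdim in
/-- Graphs are effective Cartier divisors. -/
theorem isEffCartier_graph (T : Over S) (x : T.left ⟶ C) (hx : x ≫ f = T.hom) :
    BlowUp.IsEffCartierIdeal (_root_.HilbD.secGraph f T x hx) := by
  haveI := smooth_relDim_one f hdim
  haveI : SmoothOfRelativeDimension 1 (PicF.XTproj f T) :=
    haveI := smoothOfRelativeDimension_isStableUnderBaseChange.{u} (n := 1)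
    MorphismProperty.pullback_snd (P := @SmoothOfRelativeDimension 1) f T.hom ‹_›
  exact RelDiv.Cartier.isEffCartier_of_isFinLocFree (PicF.XTproj f T) _
    (HilbD.Sec.finLocFreeOfDeg_secGraph f T x hx).1

include hdim in
/-- Pullbacks of graph ideals are graph ideals. -/
theorem nonempty_pullback_graph {T T' : Over S} (q : T' ⟶ T) (x : T.left ⟶ C) (hx : x ≫ f = T.hom) :
    Nonempty ((Scheme.Modules.pullback (PicF.XTmap f q)).obj
        (ClSub.idealMod (_root_.HilbD.secGraph f T x hx)) ≅
      ClSub.idealMod (_root_.HilbD.secGraph f T' (q.left ≫ x)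
        (by rw [Category.assoc, hx, Over.w q]))) := by
  have hJ' := isEffCartier_graph f hdim T' (q.left ≫ x) (by rw [Category.assoc, hx, Over.w q])
  rw [← HilbD.Sec.pull_secGraph f q x hx, HilbD.Basic.pull_eq_comap] at hJ'
  obtain ⟨i⟩ := ModelFibre.IdealPull.nonempty_pullback_idealMod (PicF.XTmap f q)
    (isEffCartier_graph f hdim T x hx) (fun U s _ hs z hz => by
      obtain ⟨V, hzV, hle, e', he', hspan⟩ := Lib.Ideal.EffCartier.exists_gen hJ' z hz
      rw [Lib.Ideal.Comap.ideal_comap _ _ U V hle, hs, _root_.Ideal.map_span, Set.image_singleton] at hspan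
      obtain ⟨a, ha⟩ := _root_.Ideal.mem_span_singleton'.1
        (hspan.ge (_root_.Ideal.mem_span_singleton_self e'))
      obtain ⟨b, hb⟩ := _root_.Ideal.mem_span_singleton'.1
        (hspan.le (_root_.Ideal.mem_span_singleton_self _))
      have hab : a * b = 1 := by
        have h1 : (a * b - 1) * e' = 0 := by rw [sub_mul, mul_assoc, hb, ha, one_mul, sub_self]
        exact sub_eq_zero.1 (mem_nonZeroDivisors_iff_right.1 he' _ h1)
      have hs' : ((PicF.XTmap f q).appLE U.1 V.1 hle).hom s ∈ nonZeroDivisors _ := by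
        rw [← hb]
        exact mul_mem (IsUnit.mem_nonZeroDivisors (IsUnit.of_mul_eq_one a ((mul_comm b a).trans hab))) he'
      have h2 := Lib.Ideal.EffCartier.germ_mem_nonZeroDivisors V.2 hs' z hzV
      rw [Scheme.Hom.appLE, CommRingCat.hom_comp, RingHom.comp_apply,
        TopCat.Presheaf.germ_res_apply] at h2
      exact h2)
  rw [← HilbD.Basic.pull_eq_comap, HilbD.Sec.pull_secGraph f q x hx] at i
  exact ⟨i⟩

include hdim in
/-- Points with locally equal classes `O(x)` are equal. -/
theorem eq_of_pullCl_eq (hg : ∀ s : S, 1 ≤ CohIII.fiberRank f (Coh.structureModule C) 1 s)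
    (LΔ : (PicF.XT f (Over.mk f)).Modules) (hLΔ : PicF.IsInvertible LΔ)
    (hΔ : ClSub.IsInverseOf LΔ (ClSub.idealMod (pullback.diagonal f).ker))
    (T : Over S) (a b : T ⟶ Over.mk f)
    (he : PicF.pullCl (PicF.XTmap f a) (PicF.cl LΔ) = PicF.pullCl (PicF.XTmap f b) (PicF.cl LΔ)) :
    a = b := by
  obtain ⟨e⟩ := hΔ
  have hinv : ∀ c : T ⟶ Over.mk f, Nonempty (CohB1.tensorMod
      ((Scheme.Modules.pullback (PicF.XTmap f c)).obj LΔ)
      (ClSub.idealMod (_root_.HilbD.secGraph f T c.left (Over.w c))) ≅ Coh.structureModule _) := by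
    intro c
    obtain ⟨i⟩ := nonempty_pullback_graph f hdim c (𝟙 C) (Category.id_comp f)
    have hc : c.left ≫ (show (Over.mk f).left ⟶ C from 𝟙 C) = c.left := Category.comp_id _
    simp only [hc] at i
    exact ⟨TensorMod.Basic.tensorIso (Iso.refl _) i.symm ≪≫
      (TensorMod.Pullback.pullbackTensorIso (PicF.XTmap f c) _ _).symm ≪≫
      (Scheme.Modules.pullback (PicF.XTmap f c)).mapIso e ≪≫ PicLoc.pullbackStructureIso _⟩
  obtain ⟨j⟩ : Nonempty ((Scheme.Modules.pullback (PicF.XTmap f a)).obj LΔ ≅
      (Scheme.Modules.pullback (PicF.XTmap f b)).obj LΔ) :=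
    (PicGrp.cl_eq_cl_iff _ _).1 he
  obtain ⟨ea⟩ := hinv a
  obtain ⟨eb⟩ := hinv b
  let M := (Scheme.Modules.pullback (PicF.XTmap f a)).obj LΔ
  have hM : PicF.IsInvertible M := PicLoc.isInvertible_pullback _ hLΔ
  let p := PicF.XTproj f T
  have hsq : IsPullback (pullback.fst f T.hom) p f T.hom := IsPullback.of_hasPullback f T.hom
  haveI : IsProper p := MorphismProperty.of_isPullback hsq ‹IsProper f›
  haveI : Smooth p := MorphismProperty.of_isPullback hsq ‹Smooth f›
  haveI : GeometricallyConnected p := MorphismProperty.of_isPullback hsq ‹GeometricallyConnected f›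
  have hdim' : ∀ t, topologicalKrullDim ↥(p.fiber t) = 1 := fun t =>
    (dim_fiber_baseChange f hsq t).trans (hdim _)
  have hO := TensorMod.LocFree.of_rank (TensorMod.LocFree.of_isInvertible (PicLoc.isInvertible_structureModule C))
  haveI : (Coh.structureModule C).IsQuasicoherent := TensorMod.QCohInv.isQCoh_structureModule C
  have hg' : ∀ t, 1 ≤ CohIII.fiberRank p (Coh.structureModule (PicF.XT f T)) 1 t := by
    intro t
    refine le_of_le_of_eq (hg (T.hom t)) ?_
    rw [← ExchangeFP29.FieldPoint.fiberRank_baseChange f (Coh.structureModule C)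
      (TensorMod.FPConv.isFP_of_isFinLocFree hO)
      (_root_.ZarCoh.Exchange.NearFibre.isFlatOver_of_isFinLocFree f hO) T.hom (pullback.fst f T.hom) p hsq 1 t]
    exact Curves.Euler.hdim_eq_of_iso (k := T.left.residueField t)
      ((Scheme.Modules.pullback (p.fiberι t)).mapIso (PicLoc.pullbackStructureIso _)) 1
  haveI := DerivedOX.Grothendieck.enoughInjectives_modules (PicF.XT f T)
  haveI : HasInjectiveResolutions (PicF.XT f T).Modules := inferInstance
  let φ : ClSub.idealMod (_root_.HilbD.secGraph f T b.left (Over.w b)) ≅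
      ClSub.idealMod (_root_.HilbD.secGraph f T a.left (Over.w a)) :=
    TensorMod.Invertible.cancelRight hM (TensorMod.Basic.comm _ _ ≪≫
      TensorMod.Basic.tensorIso j (Iso.refl _) ≪≫ eb ≪≫ ea.symm ≪≫ TensorMod.Basic.comm _ _)
  have key := DegOneSection.eq_of_iso p hdim' (HilbD.Sec.sec f T a.left (Over.w a))
    (HilbD.Sec.sec_proj f T a.left (Over.w a)) hM ⟨ea⟩ hg'
    (HilbD.Sec.sec f T b.left (Over.w b)) (HilbD.Sec.sec_proj f T b.left (Over.w b)) φ
  refine Over.OverMorphism.ext ?_
  have h := congrArg (· ≫ pullback.fst f T.hom) key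
  simp only [HilbD.Sec.sec_fst] at h
  exact h.symm

end Smooth

end Groth.Agent.H34.AbelMono
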