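import Groth.Agent.H54.BCX.ZeroCrit

/-!
# Base change of the direct image when the first fibre cohomology vanishes
-/

set_option autoImplicit false
set_option linter.style.haveILetI false
universe u

open CategoryTheory Limits AlgebraicGeometry

namespace Groth.Agent.H34.BC0Vanish

attribute [local instance] H54.BCX.Pair.overOpen

variable {X S : Scheme.{u}} {f : X ⟶ S} [IsProper f] [LocallyOfFinitePresentation f] {F : X.Modules}
  [F.IsQuasicoherent]

/-- Base change of the direct image holds if `H¹` of the fibres vanishes along the image. -/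
theorem isIso_bc0 (hF : CohB1.IsFP F) (hfl : FlatMod.IsFlatOver f F) {X' S' : Scheme.{u}}
    {g' : X' ⟶ X} {f' : X' ⟶ S'} {g : S' ⟶ S} (hq : IsPullback g' f' f g)
    (h1 : ∀ z : S', Subsingleton (CohIII.fiberH f F (g z) 1)) :
    IsIso (CohBC.bc0 f g f' g' hq.w F) := by
  refine H54.BCX.ZeroCrit.isIso_bc0 hq fun z => ?_
  obtain ⟨V, hV, hzV, ⟨D⟩⟩ := H54.BCX.Main.exists_affine hF hfl (g z)
  obtain ⟨a, ha, -, h2, -⟩ := H54.BCX.Crit.exists_of_vanishing hV D hzV 1 (h1 z)
  exact ⟨V, hV, D, a, ha, H54.BCX.Crit.split_congr D.L (by omega) (by omega) h2⟩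

end Groth.Agent.H34.BC0Vanish
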