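import Groth.Agent.Lib.ExchangeFP29.Main
import Groth.Agent.H54.BCX.Main
import Groth.Agent.Lib.CurveFF.SmoothBC
import Groth.Agent.Lib.CurveFF.Consts
import Groth.Agent.Lib.Curves.Clifford
import Groth.Agent.Lib.SurfInt.CurvePos
import Groth.Agent.Lib.ModelFibre.TorsGen
import Groth.Agent.Lib.Exchange.NearFibre
import Groth.Agent.Lib.TensorMod.FPConv

/-!
# Pluricanonical sheaves of families of smooth curves
-/

set_option autoImplicit false
set_option linter.style.haveILetI false
universe u

open CategoryTheory CategoryTheory.Limits AlgebraicGeometry TopologicalSpace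

noncomputable section

namespace Groth.Agent.H34.CanonFam

open Groth.Agent Groth.Agent.Lib

variable {C S : Scheme.{u}} (f : C ⟶ S)

/-- The fibre as a scheme over the residue field. -/
@[reducible]
def fibOver (s : S) : (f.fiber s).Over (Spec (CommRingCat.of (S.residueField s))) :=
  ⟨f.fiberToSpecResidueField s⟩

section

attribute [local instance] fibOver

variable [IsProper f] [Smooth f] [GeometricallyConnected f]

instance fibre_proper (s : S) :
    IsProper (f.fiber s ↘ Spec (CommRingCat.of (S.residueField s))) :=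
  show IsProper (f.fiberToSpecResidueField s) from MorphismProperty.pullback_snd _ _ ‹IsProper f›

instance fibre_smooth (s : S) :
    Smooth (f.fiber s ↘ Spec (CommRingCat.of (S.residueField s))) :=
  show Smooth (f.fiberToSpecResidueField s) from MorphismProperty.pullback_snd _ _ ‹Smooth f›

instance fibre_geomConn (s : S) :
    GeometricallyConnected (f.fiber s ↘ Spec (CommRingCat.of (S.residueField s))) :=
  show GeometricallyConnected (f.fiberToSpecResidueField s) from
    MorphismProperty.pullback_snd _ _ ‹GeometricallyConnected f›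

variable (hdim : ∀ s : S, topologicalKrullDim ↥(f.fiber s) = 1)

include hdim

theorem connectedSpace (s : S) : ConnectedSpace (f.fiber s) := by
  haveI : Nonempty (Spec (CommRingCat.of (S.residueField s))) :=
    inferInstanceAs (Nonempty (PrimeSpectrum (S.residueField s)))
  haveI : Subsingleton (Spec (CommRingCat.of (S.residueField s))) :=
    inferInstanceAs (Subsingleton (PrimeSpectrum (S.residueField s)))
  exact GeometricallyConnected.connectedSpace_of_subsingleton
    (f.fiber s ↘ Spec (CommRingCat.of (S.residueField s)))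

theorem isIntegral (s : S) : IsIntegral (f.fiber s) :=
  haveI := connectedSpace f hdim s
  CurveBundle.SmoothField.isIntegral (S.residueField s) (hdim s).le

theorem h0 (s : S) :
    Module.finrank (S.residueField s) (Coh.HH (f.fiber s) (Coh.structureModule (f.fiber s)) 0) = 1 :=
  haveI := connectedSpace f hdim s
  CurveFF.finrank_h0_eq_one (S.residueField s) (f.fiber s)

/-- The relative differentials of a family of smooth curves form an invertible module. -/
theorem isInvertible_omega : PicF.IsInvertible (Omega.sheaf f) := by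
  refine TensorMod.LocFree.isInvertible_of_rank_one fun x => ?_
  obtain ⟨U, m, hx, hiso, hm⟩ :=
    Kaehler.SmoothChart.exists_free_fibreDim (Kaehler.DOmega.isUniversal_dOmega f) x
  haveI := isIntegral f hdim (f x)
  have : FlatMor.fibreDimAt f x = 1 := by
    show FlatMor.localDim (f.fiber (f x)) (f.asFiber x) = 1
    rw [JacCrit.OverField.localDim_eq_of_irreducible (K := S.residueField (f x))
      (f.fiber (f x) ↘ Spec (CommRingCat.of (S.residueField (f x)))) (f.asFiber x), hdim]
  rw [this] at hm
  obtain rfl : 1 = m := by exact_mod_cast hm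
  exact ⟨U, hx, hiso⟩

omit [GeometricallyConnected f] hdim in
/-- The differentials restrict to the differentials of the fibre. -/
theorem nonempty_fibre_omega (s : S) :
    Nonempty (CohIII.fiberMod f (Omega.sheaf f) s ≅
      Omega.sheaf (f.fiber s ↘ Spec (CommRingCat.of (S.residueField s)))) := by
  haveI : QuasiSeparated (f.fiberToSpecResidueField s) :=
    MorphismProperty.pullback_snd _ _ (inferInstance : QuasiSeparated f)
  obtain ⟨c, hc, -⟩ := Kaehler.Basic.existsUnique_diffCompat (h := f.fiberι s)
    (b := S.fromSpecResidueField s) (f := f) (f' := f.fiberToSpecResidueField s)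
    (IsPullback.of_hasPullback f (S.fromSpecResidueField s)).w.symm
    (Kaehler.DOmega.isUniversal_dOmega f) (OmegaSh.dOmega (f.fiberToSpecResidueField s))
  exact ⟨@asIso _ _ _ _ c (Kaehler.BaseChange.isIso_of_isPullback
    (IsPullback.of_hasPullback f (S.fromSpecResidueField s)) (Kaehler.DOmega.isUniversal_dOmega f)
    (Kaehler.DOmega.isUniversal_dOmega _) c hc)⟩

omit [IsProper f] [Smooth f] [GeometricallyConnected f] hdim in
/-- Isomorphic modules have isomorphic tensor powers. -/
theorem nonempty_tensorPow {X : Scheme.{u}} {M N : X.Modules} (w : M ≅ N) :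
    ∀ n, Nonempty (CohB1.tensorPow M n ≅ CohB1.tensorPow N n)
  | 0 => ⟨Iso.refl _⟩
  | m + 1 => by
    obtain ⟨i⟩ := nonempty_tensorPow w m
    exact ⟨TensorMod.Basic.tensorIso i w⟩

variable (n : ℕ)

omit [GeometricallyConnected f] hdim in
/-- The restriction of a tensor power of the differentials to a fibre. -/
theorem nonempty_fibre_pow (s : S) :
    Nonempty (CohIII.fiberMod f (CohB1.tensorPow (Omega.sheaf f) n) s ≅
      CohB1.tensorPow (Omega.sheaf (f.fiber s ↘ Spec (CommRingCat.of (S.residueField s)))) n) := by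
  obtain ⟨e⟩ := ModelFibre.TorsGen.nonempty_pullback_tensorPow (f.fiberι s) (Omega.sheaf f) n
  obtain ⟨w⟩ := nonempty_fibre_omega f s
  obtain ⟨i⟩ := nonempty_tensorPow w n
  exact ⟨e ≪≫ i⟩

end

attribute [local instance] fibOver

variable [IsProper f] [Smooth f] [GeometricallyConnected f]
  (hdim : ∀ s : S, topologicalKrullDim ↥(f.fiber s) = 1) {g n : ℕ}

include hdim

/-- Cohomology of the pluricanonical sheaves on the fibres. -/
theorem fiberRank_pow (hg : 2 ≤ g) (hn : 2 ≤ n) (s : S)
    (hgen : Curv2.genus (S.residueField s) (f.fiber s) = g) :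
    CohIII.fiberRank f (CohB1.tensorPow (Omega.sheaf f) n) 1 s = 0 ∧
      CohIII.fiberRank f (CohB1.tensorPow (Omega.sheaf f) n) 0 s = (2 * n - 1) * (g - 1) := by
  haveI := isIntegral f hdim s
  obtain ⟨e⟩ := nonempty_fibre_pow f n s
  have hω := CurveFF.SmoothBC.isInvertible (k := S.residueField s) (X := f.fiber s) (hdim s)
  have hh0 := h0 f hdim s
  obtain ⟨-, hd⟩ := CurveFF.SmoothBC.omega_facts (k := S.residueField s) (X := f.fiber s) (hdim s) hh0
  have hinv := TensorMod.Invertible.isInvertible_tensorPow hω n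
  have hdn := SurfInt.CurvePos.deg_tensorPow (k := S.residueField s) (hdim s).le hω n
  rw [hd, hgen] at hdn
  have hbig : 2 * (Curv2.genus (S.residueField s) (f.fiber s) : ℤ) - 2 <
      Curv2.deg (S.residueField s) (f.fiber s)
        (CohB1.tensorPow (Omega.sheaf (f.fiber s ↘ Spec (CommRingCat.of (S.residueField s)))) n) 1 := by
    rw [hdn, hgen]
    have h1 : (1 : ℤ) ≤ (g : ℤ) - 1 := by omega
    have h2 : (2 : ℤ) ≤ n := by omega
    nlinarith
  haveI := Curves.Clifford.subsingleton_one_of_deg (S.residueField s) (hdim s).le hh0 hinv hbig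
  have hz := Curves.Clifford.hdim_zero_eq_of_deg (S.residueField s) (hdim s).le hh0 hinv hbig
  rw [hdn, hgen] at hz
  refine ⟨?_, ?_⟩
  · change Curves.Euler.hdim (S.residueField s) (f.fiber s) (CohIII.fiberMod f _ s) 1 = 0
    rw [Curves.Euler.hdim_eq_of_iso e]
    exact Module.finrank_zero_of_subsingleton
  · change Curves.Euler.hdim (S.residueField s) (f.fiber s) (CohIII.fiberMod f _ s) 0 = _
    rw [Curves.Euler.hdim_eq_of_iso e]
    apply Int.ofNat_inj.1
    rw [hz]
    push_cast [Nat.cast_sub (show 1 ≤ 2 * n by omega), Nat.cast_sub (show 1 ≤ g by omega)]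
    ring

/-- The cohomology above the fibre dimension vanishes, and in degree one for pluricanonical sheaves. -/
theorem fiberRank_pow_eq_zero (hg : 2 ≤ g) (hn : 2 ≤ n)
    (hgen : ∀ s, Curv2.genus (S.residueField s) (f.fiber s) = g) {i : ℕ} (hi : 1 ≤ i) (s : S) :
    CohIII.fiberRank f (CohB1.tensorPow (Omega.sheaf f) n) i s = 0 := by
  rcases Nat.lt_or_ge 1 i with h | h
  · haveI := H54.BCX.Main.subsingleton_fiberH (f := f) (F := CohB1.tensorPow (Omega.sheaf f) n) (d := 1) s
      (by exact_mod_cast (hdim s).le) h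
    exact Module.finrank_zero_of_subsingleton
  · obtain rfl : i = 1 := by omega
    exact (fiberRank_pow f hdim hg hn s (hgen s)).1

/-- Direct images of the pluricanonical sheaves. -/
theorem push_pow [HasInjectiveResolutions C.Modules] (hg : 2 ≤ g) (hn : 2 ≤ n)
    (hgen : ∀ s, Curv2.genus (S.residueField s) (f.fiber s) = g) :
    FlatMod.IsFinLocFreeOfRank ((2 * n - 1) * (g - 1))
        ((Coh.push f).obj (CohB1.tensorPow (Omega.sheaf f) n)) ∧
      ∀ i : ℕ, 1 ≤ i → IsZero ((Coh.Rpush f i).obj (CohB1.tensorPow (Omega.sheaf f) n)) := by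
  set F := CohB1.tensorPow (Omega.sheaf f) n
  have hF' := TensorMod.LocFree.of_rank (TensorMod.LocFree.of_isInvertible
    (TensorMod.Invertible.isInvertible_tensorPow (isInvertible_omega f hdim) n))
  have hF : CohB1.IsFP F := TensorMod.FPConv.isFP_of_isFinLocFree hF'
  haveI : F.IsQuasicoherent :=
    have : SheafOfModules.IsFinitePresentation (R := C.ringCatSheaf) F := hF
    inferInstance
  have hfl : FlatMod.IsFlatOver f F := ZarCoh.Exchange.NearFibre.isFlatOver_of_isFinLocFree f hF'
  have hv := fun i (hi : 1 ≤ i) => fiberRank_pow_eq_zero f hdim hg hn hgen hi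
  refine ⟨fun y => ?_, fun i hi => ExchangeFP29.Main.isZero_Rpush f F hF hfl i (hv i hi)⟩
  obtain ⟨V, hV, hyV, -⟩ := exists_isAffineOpen_mem_and_subset (U := ⊤) (x := y) trivial
  haveI : IsAffine (V : Scheme.{u}) := hV
  obtain ⟨P, hP, he, -, hz⟩ := ExchangeFP29.Main.exists_of_vanish f F hF hfl V
  obtain ⟨e⟩ := he 0
  have hq : Module.Flat (_root_.ZarCoh.Exchange.Local.AV V) (FlatCx.Basic.Q P (-((0 : ℕ) : ℤ) - 1)) := by
    have h := (hz 1 fun z _ => hv 1 le_rfl z).2.1
    simpa using h
  obtain ⟨W, hW, ⟨i⟩⟩ := ExchangeFP29.Main.exists_free_nhd f F 0 hP e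
    (hP.flat_Q_nonneg _ (by simp)) hq hyV
  obtain ⟨z⟩ := ExchangeFP29.Main.nonempty_zeroIso f F
  rw [(fiberRank_pow f hdim hg hn y (hgen y)).2] at i
  exact ⟨W, hW, ⟨(Scheme.Modules.restrictFunctor W.ι).mapIso z.symm ≪≫ i⟩⟩

end Groth.Agent.H34.CanonFam
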