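import Mathlib.LinearAlgebra.Matrix.Determinant.Basic
import Mathlib.Data.Finset.Sort

/-! The Cauchy–Binet formula. -/

namespace Groth.Agent.H34.CauchyBinet

open Matrix Finset

variable {R : Type*} [CommRing R] {e r : ℕ}

/-- Multilinear expansion of the determinant of a product. -/
theorem det_mul_expand (A : Matrix (Fin e) (Fin r) R) (B : Matrix (Fin r) (Fin e) R) :
    (A * B).det = ∑ p : Fin e → Fin r, (∏ i, A i (p i)) * (B.submatrix p id).det := by
  classical
  have h : (A * B).det = detRowAlternating.toMultilinearMap (fun i => ∑ j, A i j • B j) := by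
    show (A * B).det = Matrix.det (fun i => ∑ j, A i j • B j)
    congr 1
    ext i k
    simp [Matrix.mul_apply, Finset.sum_apply]
  rw [h, MultilinearMap.map_sum]
  refine Finset.sum_congr rfl fun p _ => ?_
  rw [MultilinearMap.map_smul_univ]
  rfl

/-- The Cauchy–Binet formula. -/
theorem det_mul_eq_sum_minors (A : Matrix (Fin e) (Fin r) R) (B : Matrix (Fin r) (Fin e) R) :
    (A * B).det = ∑ s : {s : Finset (Fin r) // s.card = e},
      (A.submatrix id (s.1.orderEmbOfFin s.2)).det * (B.submatrix (s.1.orderEmbOfFin s.2) id).det := by
  classical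
  rw [det_mul_expand, ← Finset.sum_subset (subset_univ (univ.filter Function.Injective))]
  · let toFun : ({s : Finset (Fin r) // s.card = e} × Equiv.Perm (Fin e)) → (Fin e → Fin r) :=
      fun x => (x.1.1.orderEmbOfFin x.1.2) ∘ x.2
    rw [← Finset.sum_nbij (s := (univ : Finset ({s : Finset (Fin r) // s.card = e} × Equiv.Perm (Fin e))))
      (i := toFun) (f := fun x => (∏ i, A i (toFun x i)) * (B.submatrix (toFun x) id).det)]
    · rw [Fintype.sum_prod_type]
      refine Finset.sum_congr rfl fun s _ => ?_
      rw [← Matrix.det_transpose (A.submatrix id _), Matrix.det_apply', Finset.sum_mul]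
      refine Finset.sum_congr rfl fun σ _ => ?_
      have : B.submatrix (toFun (s, σ)) id = (B.submatrix (s.1.orderEmbOfFin s.2) id).submatrix σ id := by
        simp [toFun, Matrix.submatrix_submatrix]
      rw [this, Matrix.det_permute]
      simp only [toFun, Function.comp_apply, Matrix.transpose_apply, Matrix.submatrix_apply, id]
      ring
    · intro x _
      exact Finset.mem_filter.2
        ⟨mem_univ _, (x.1.1.orderEmbOfFin x.1.2).injective.comp x.2.injective⟩
    · rintro ⟨s, σ⟩ _ ⟨t, τ⟩ _ h
      have himg : ∀ (s : {s : Finset (Fin r) // s.card = e}) (σ : Equiv.Perm (Fin e)),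
          Set.range (toFun (s, σ)) = (s.1 : Set (Fin r)) := by
        intro s σ
        simp [toFun]
      obtain rfl : s = t := Subtype.ext (Finset.coe_injective (by rw [← himg s σ, ← himg t τ, h]))
      have : σ = τ := Equiv.ext fun i => (s.1.orderEmbOfFin s.2).injective (congrFun h i)
      rw [this]
    · intro p hp
      have hp' : Function.Injective p := (Finset.mem_filter.1 hp).2
      have hc : (univ.image p).card = e := by
        simp [Finset.card_image_of_injective _ hp']
      let s : {s : Finset (Fin r) // s.card = e} := ⟨univ.image p, hc⟩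
      let σ0 : Fin e → Fin e :=
        fun i => (s.1.orderIsoOfFin s.2).symm ⟨p i, mem_image_of_mem p (mem_univ i)⟩
      have hσ : Function.Injective σ0 := by
        intro i j hij
        exact hp' (congrArg Subtype.val ((s.1.orderIsoOfFin s.2).symm.injective hij))
      refine ⟨(s, Equiv.ofBijective σ0 (Finite.injective_iff_bijective.1 hσ)), mem_univ _, ?_⟩
      funext i
      show s.1.orderEmbOfFin s.2 (σ0 i) = p i
      rw [← Finset.coe_orderIsoOfFin_apply, OrderIso.apply_symm_apply]
    · intro x _; rfl
  · intro p _ hp
    have hp' : ¬ Function.Injective p := by simpa using hp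
    simp only [Function.Injective, not_forall] at hp'
    obtain ⟨i, j, hij, hne⟩ := hp'
    rw [Matrix.det_zero_of_row_eq hne (by funext k; simp [Matrix.submatrix_apply, hij]), mul_zero]

end Groth.Agent.H34.CauchyBinet
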