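import Groth.Agent.H34.SectionFix
import Groth.Agent.H34.CanonFam
import Groth.Agent.Lib.Curves.DegreeOne
import Groth.Agent.Lib.Curves.RationalPoint
import Groth.Agent.Lib.ModelFibre.IdealPull
import Groth.Agent.Lib.TensorMod.TensorInv
import Groth.Agent.H4.CartierSection

/-!
# The invertible module of a section of a family of curves of positive genus
-/

set_option autoImplicit false
set_option linter.style.haveILetI false
universe u

open CategoryTheory CategoryTheory.Limits AlgebraicGeometry Opposite TopologicalSpace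

noncomputable section

namespace Groth.Agent.H34.DegOneSection

open Groth.Agent Groth.Agent.Lib TensorMod TensorMod.Dual TensorMod.Gen TensorMod.HomGlue
open Ample.GenLocus TensorMod.Pullback

section Dual

variable {X : Scheme.{u}} {I : X.Modules}

/-- A map to functions is a section of the dual. -/
def formSec (v : I ⟶ Coh.structureModule X) : DualSec I ⊤ :=
  ⟨fun V =>
    { toFun := fun m => (v.app V.1 m : Γ(X, V.1))
      map_add' := fun a b => map_add (v.app V.1).hom a b
      map_smul' := fun r m => v.app_smul r m },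
    fun _ _ h m => rs_app v h m⟩

theorem formSec_app (v : I ⟶ Coh.structureModule X) {V : X.Opens} (h : V ≤ ⊤) (m : Γ(I, V)) :
    (formSec v).app h m = v.app V m := rfl

/-- Multiples as maps are multiples as forms. -/
theorem app_of_formSec_eq {v w : I ⟶ Coh.structureModule X} {a : Γ(X, ⊤)}
    (h : formSec v = a • formSec w) (V : X.Opens) (m : Γ(I, V)) :
    (show Γ(X, V) from v.app V m) = rf le_top a * (show Γ(X, V) from w.app V m) := by
  have h1 := congrArg (fun φ : DualSec I ⊤ => φ.app (le_top : V ≤ ⊤) m) h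
  exact h1.trans (smul_app I a _ _ _)

/-- The section of the dual given by the inclusion of an ideal generates off the support. -/
theorem isGen_formSec_of_disjoint (J : X.IdealSheafData) (U : X.affineOpens)
    (hU : Disjoint (U.1 : Set X) J.support) :
    IsGen (Dual.dual (ClSub.idealMod J)) U.1
      (rs (Dual.dual (ClSub.idealMod J)) le_top
        (show Γ(Dual.dual (ClSub.idealMod J), (⊤ : X.Opens)) from formSec (ClSub.idealModι J))) := by
  have htop : J.ideal U = ⊤ := by
    by_contra hne
    obtain ⟨P, hP, hle⟩ := Ideal.exists_le_maximal _ hne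
    let q : Spec Γ(X, U.1) := ⟨P, hP.isPrime⟩
    have hxU : U.2.fromSpec q ∈ U.1 := U.2.range_fromSpec.le ⟨q, rfl⟩
    refine Set.disjoint_left.1 hU hxU ?_
    rw [SetLike.mem_coe, Lib.Ideal.Prime.mem_support_iff_le_prime J U hxU]
    have hq : U.2.primeIdealOf ⟨U.2.fromSpec q, hxU⟩ = q :=
      U.2.fromSpec.isOpenEmbedding.injective (U.2.fromSpec_primeIdealOf ⟨_, hxU⟩)
    rw [hq]
    exact hle
  obtain ⟨e, he⟩ := (Lib.ClSub.Sections.mem_range_idealModι_app_affine_iff J U 1).2
    (htop.symm ▸ Submodule.mem_top)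
  have hgen : IsGen (ClSub.idealMod J) U.1 e :=
    H4.CartierSection.isGen_idealMod J U 1 (one_mem _)
      (htop.trans Ideal.span_singleton_one.symm) e he
  obtain ⟨φ, hφ, hφe⟩ := Invertible.exists_dual_gen hgen
  have heq : (rs (Dual.dual (ClSub.idealMod J)) le_top
      (show Γ(Dual.dual (ClSub.idealMod J), (⊤ : X.Opens)) from formSec (ClSub.idealModι J))) =
      (show Γ(Dual.dual (ClSub.idealMod J), U.1) from φ) := by
    refine DualSec.ext fun V hV m => ?_
    obtain ⟨a, rfl⟩ := (hgen V hV).2 m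
    show (formSec (ClSub.idealModι J)).app _ (a • rs _ hV e) = φ.app hV (a • rs _ hV e)
    rw [map_smul, map_smul, ← DualSec.compat φ le_rfl hV, hφe]
    congr 1
    show ((ClSub.idealModι J).app V (rs (ClSub.idealMod J) hV e) : Γ(X, V)) = rf hV 1
    exact (rs_app (ClSub.idealModι J) hV e).symm.trans (congrArg (rf hV) he)
  rw [heq]
  exact hφ

/-- An invertible ideal module is an effective Cartier ideal. -/
theorem isEffCartierIdeal (J : X.IdealSheafData) (hJ : PicF.IsInvertible (ClSub.idealMod J)) :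
    BlowUp.IsEffCartierIdeal J := by
  intro x
  obtain ⟨U, e, hxU, he⟩ := isInvertible_iff.1 hJ x
  obtain ⟨_, ⟨W, hW, rfl⟩, hxW, hWU⟩ :=
    X.isBasis_affineOpens.exists_subset_of_mem_open hxU U.isOpen
  have he' := he.res (hWU : W ≤ U)
  set m := rs (ClSub.idealMod J) (hWU : W ≤ U) e
  let s : Γ(X, W) := (ClSub.idealModι J).app W m
  have hkey : ∀ a : Γ(X, W), ((ClSub.idealModι J).app W (a • m) : Γ(X, W)) = a * s :=
    fun a => (ClSub.idealModι J).app_smul a m
  refine ⟨⟨W, hW⟩, hxW, s, ?_, ?_⟩
  · rw [mem_nonZeroDivisors_iff_right]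
    intro a ha
    have h0 : a • m = 0 := Lib.ClSub.Sections.idealModι_app_injective J W
      ((hkey a).trans (ha.trans (map_zero ((ClSub.idealModι J).app W).hom).symm))
    refine (he' W le_rfl).1 ?_
    show a • rs _ le_rfl m = (0 : Γ(X, W)) • rs _ le_rfl m
    rw [rs_self, h0, zero_smul]
  · ext r
    rw [← Lib.ClSub.Sections.mem_range_idealModι_app_affine_iff, Ideal.mem_span_singleton']
    constructor
    · rintro ⟨w, rfl⟩
      obtain ⟨a, ha⟩ := (he' W le_rfl).2 w
      refine ⟨a, ?_⟩
      rw [← ha, rs_self]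
      exact (hkey a).symm
    · rintro ⟨a, rfl⟩
      exact ⟨a • m, hkey a⟩

end Dual

/-- The base change of a section. -/
theorem exists_sec {C C' V S' : Scheme.{u}} {p : C ⟶ V} {q : C' ⟶ C} {p' : C' ⟶ S'} {b : S' ⟶ V}
    (sq : IsPullback q p' p b) [IsSeparated p] (τ : V ⟶ C) (hτ : τ ≫ p = 𝟙 V) :
    ∃ τ' : S' ⟶ C', τ' ≫ p' = 𝟙 S' ∧ τ.ker.comap q = τ'.ker ∧ τ' ≫ q = b ≫ τ := by
  haveI : IsClosedImmersion τ := by
    haveI : IsClosedImmersion (τ ≫ p) := by rw [hτ]; infer_instance
    exact IsClosedImmersion.of_comp τ p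
  let τ' : S' ⟶ C' := sq.lift (b ≫ τ) (𝟙 S') (by simp [hτ])
  have h2 : τ' ≫ p' = 𝟙 S' := sq.lift_snd _ _ _
  refine ⟨τ', h2, ?_, sq.lift_fst _ _ _⟩
  have sq' : IsPullback b τ' τ q := by
    refine IsPullback.of_bot ?_ (sq.lift_fst _ _ _).symm sq
    rw [h2, hτ]
    exact IsPullback.of_vert_isIso ⟨by simp⟩
  rw [← Scheme.IdealSheafData.ker_fst_of_isClosedImmersion, ← sq'.flip.isoPullback_inv_fst,
    Scheme.Hom.ker_comp_of_isIso]

section Family

attribute [local instance] CanonFam.fibOver

variable {C S : Scheme.{u}} (f : C ⟶ S) [IsProper f] [Smooth f] [GeometricallyConnected f]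
  (hdim : ∀ s : S, topologicalKrullDim ↥(f.fiber s) = 1)
  (x : S ⟶ C) (hx : x ≫ f = 𝟙 S)

include hx in
theorem isClosedImmersion_section : IsClosedImmersion x := by
  haveI : IsClosedImmersion (x ≫ f) := by rw [hx]; infer_instance
  exact IsClosedImmersion.of_comp x f

include hdim hx in
/-- The generic point of a fibre lies off a section. -/
theorem genericPoint_notMem (y : S) :
    haveI := CanonFam.isIntegral f hdim y
    f.fiberι y (genericPoint (f.fiber y)) ∉ x.ker.support := by
  haveI := CanonFam.isIntegral f hdim y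
  haveI := isClosedImmersion_section f x hx
  intro h
  rw [← SetLike.mem_coe, Scheme.Hom.support_ker, x.isClosedEmbedding.isClosed_range.closure_eq] at h
  obtain ⟨s, hs⟩ := h
  have hfy : f (f.fiberι y (genericPoint (f.fiber y))) = y := by
    have := (f.range_fiberι y).le ⟨genericPoint (f.fiber y), rfl⟩
    simpa using this
  have hsy : s = y := by
    rw [← hfy, ← hs, ← Scheme.Hom.comp_apply, hx]
    rfl
  have hall : ∀ z : f.fiber y, f.fiberι y z = x y := by
    intro z
    have hz : f.fiberι y z ∈ Set.range x := by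
      refine x.isClosedEmbedding.isClosed_range.stableUnderSpecialization ?_ ⟨s, hs⟩
      exact (genericPoint_specializes z).map (f.fiberι y).continuous
    obtain ⟨w, hw⟩ := hz
    have hfz : f (f.fiberι y z) = y := by
      have := (f.range_fiberι y).le ⟨z, rfl⟩
      simpa using this
    have : w = y := by
      rw [← hfz, ← hw, ← Scheme.Hom.comp_apply, hx]
      rfl
    rw [← hw, this]
  haveI : Subsingleton (f.fiber y) :=
    ⟨fun a b => (f.fiberι y).isEmbedding.injective ((hall a).trans (hall b).symm)⟩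
  have hz := topologicalKrullDim_zero_of_discreteTopology (f.fiber y)
  rw [hdim y] at hz
  norm_num at hz

variable {L : C.Modules} (hL : PicF.IsInvertible L)
  (hLx : Nonempty (CohB1.tensorMod L (ClSub.idealMod x.ker) ≅ Coh.structureModule C))

include hL hLx in
theorem isInvertible_ideal : PicF.IsInvertible (ClSub.idealMod x.ker) := by
  obtain ⟨e⟩ := hLx
  exact TensorInv.isInvertible_of_tensor_iso (Basic.comm _ _ ≪≫ e)

include hdim hx hL hLx in
/-- The fibre degree and the one section. -/
theorem fiberRank_le_one (hg : ∀ s : S, 1 ≤ CohIII.fiberRank f (Coh.structureModule C) 1 s) (y : S) :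
    CohIII.fiberRank f L 0 y ≤ 1 := by
  haveI := CanonFam.isIntegral f hdim y
  have hI := isInvertible_ideal x hL hLx
  obtain ⟨e⟩ := hLx
  let g := f.fiberι y
  obtain ⟨τ', hτ', hker, -⟩ : ∃ τ' : Spec (CommRingCat.of (S.residueField y)) ⟶ f.fiber y,
      τ' ≫ (f.fiber y ↘ Spec (CommRingCat.of (S.residueField y))) = 𝟙 _ ∧
        x.ker.comap g = τ'.ker ∧ τ' ≫ g = S.fromSpecResidueField y ≫ x :=
    exists_sec (IsPullback.of_hasPullback f (S.fromSpecResidueField y)) x hx
  have hcl : IsClosed ({Curves.RationalPoint.pt (k := S.residueField y) τ'} : Set (f.fiber y)) :=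
    Curves.RationalPoint.isClosed_pt (k := S.residueField y) τ' hτ'
  have hkey := Curves.RationalPoint.ker_eq (k := S.residueField y) τ' hτ' hcl
  have hgp : genericPoint (f.fiber y) ∉ ((x.ker.comap g).support : Set (f.fiber y)) := by
    rw [Scheme.IdealSheafData.support_comap]
    exact genericPoint_notMem f hdim x hx y
  have hJ : ∀ (U : C.affineOpens) (s : Γ(C, U.1)), s ∈ nonZeroDivisors Γ(C, U.1) →
      x.ker.ideal U = _root_.Ideal.span {s} → ∀ z (hz : z ∈ g ⁻¹ᵁ U.1),
        (f.fiber y).presheaf.germ _ z hz (g.app U.1 s) ∈ nonZeroDivisors ((f.fiber y).presheaf.stalk z) := by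
    intro U s _ hs z hz
    rw [mem_nonZeroDivisors_iff_ne_zero]
    intro h0
    haveI : Nonempty (g ⁻¹ᵁ U.1) := ⟨⟨z, hz⟩⟩
    have hs0 : g.app U.1 s = 0 := by
      apply germ_injective_of_isIntegral (f.fiber y) z hz
      rw [h0, map_zero]
    have hηU : genericPoint (f.fiber y) ∈ g ⁻¹ᵁ U.1 :=
      (genericPoint_specializes z).mem_open (Opens.isOpen _) hz
    have hnot := genericPoint_notMem f hdim x hx y
    rw [Lib.Ideal.Prime.mem_support_iff_le_prime x.ker U hηU, hs, Ideal.span_singleton_le_iff_mem,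
      ← Lib.Ideal.EffCartier.mem_basicOpen_iff_notMem_prime U.2 hηU] at hnot
    have h1 : genericPoint (f.fiber y) ∈ (f.fiber y).basicOpen (g.app U.1 s) := by
      rw [← Scheme.preimage_basicOpen]; exact hnot
    rw [hs0, Scheme.basicOpen_zero] at h1
    exact h1
  obtain ⟨iJ⟩ := ModelFibre.IdealPull.nonempty_pullback_idealMod g (isEffCartierIdeal _ hI) hJ
  have hIy : PicF.IsInvertible (ClSub.idealMod (x.ker.comap g)) :=
    Invertible.isInvertible_of_iso iJ (PicLoc.isInvertible_pullback g hI)
  have hLy : PicF.IsInvertible (CohIII.fiberMod f L y) := PicLoc.isInvertible_pullback g hL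
  have hdI : Curv2.deg (S.residueField y) (f.fiber y) (ClSub.idealMod (x.ker.comap g)) 1 = -1 := by
    rw [Curves.Degree.deg_idealMod (hdim y).le hIy hgp, hker, hkey,
      Curves.PointIdeal.hdim_quot_point hcl,
      Curves.RationalPoint.finrank_residueField (k := S.residueField y) τ' hτ']
    rfl
  let ee : CohB1.tensorMod (CohIII.fiberMod f L y) (ClSub.idealMod (x.ker.comap g)) ≅
      Coh.structureModule (f.fiber y) :=
    Basic.tensorIso (Iso.refl _) iJ.symm ≪≫ (Pullback.pullbackTensorIso g _ _).symm ≪≫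
      (Scheme.Modules.pullback g).mapIso e ≪≫ PicLoc.pullbackStructureIso g
  have hd : Curv2.deg (S.residueField y) (f.fiber y) (CohIII.fiberMod f L y) 1 = 1 := by
    have h := Curves.Degree.deg_tensor (k := S.residueField y) (hdim y).le hLy hIy
    rw [Curves.Euler.deg_eq_of_iso ee, Curves.Degree.deg_structureModule, hdI] at h
    linarith
  have hle : Curves.Euler.hdim (S.residueField y) (f.fiber y) (CohIII.fiberMod f L y) 0 ≤ 1 := by
    by_contra h2
    push Not at h2
    obtain ⟨i, hi⟩ := Curves.DegreeOne.exists_iso_line (k := S.residueField y) (hdim y) hLy hd h2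
    have hg0 := (Curves.DegreeOne.h0_genus_of_iso_line hi).2
    have hg1 := hg y
    have hgen : CohIII.fiberRank f (Coh.structureModule C) 1 y =
        Curv2.genus (S.residueField y) (f.fiber y) :=
      Curves.Euler.hdim_eq_of_iso (k := S.residueField y) (PicLoc.pullbackStructureIso g) 1
    omega
  exact hle

include hdim hx hL hLx in
/-- The sections of `O(x)`. -/
theorem push_and_sections (hg : ∀ s : S, 1 ≤ CohIII.fiberRank f (Coh.structureModule C) 1 s)
    [HasInjectiveResolutions C.Modules] :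
    PicF.IsInvertible ((Coh.push f).obj L) ∧
      ∀ u : ClSub.idealMod x.ker ⟶ Coh.structureModule C, ∃ a : Γ(S, ⊤),
        ∀ (V : C.Opens) (m : Γ(ClSub.idealMod x.ker, V)),
          (show Γ(C, V) from u.app V m) =
            rf le_top (show Γ(C, ⊤) from f.app ⊤ a) *
              (show Γ(C, V) from (ClSub.idealModι x.ker).app V m) := by
  have hI := isInvertible_ideal x hL hLx
  have hle1 := fiberRank_le_one f hdim x hx hL hLx hg
  obtain ⟨e⟩ := hLx
  let D := Dual.dual (ClSub.idealMod x.ker)
  let θ : L ≅ D := Invertible.cancelRight hI (e ≪≫ (Basic.comm _ _ ≪≫ Invertible.tensorDualIso hI).symm)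
  obtain ⟨s, hs⟩ := exists_hom_of_sec (L := D)
    (show Γ(D, (⊤ : C.Opens)) from formSec (ClSub.idealModι x.ker))
  let t := s ≫ θ.inv
  have hne : ∀ y : S, ∃ z ∈ CohB1.genLocus L t, f z = y := by
    intro y
    haveI := CanonFam.isIntegral f hdim y
    refine ⟨f.fiberι y (genericPoint (f.fiber y)), ?_, ?_⟩
    · show _ ∈ CohB1.genLocus L (s ≫ θ.symm.hom)
      rw [genLocus_comp_iso s θ.symm]
      obtain ⟨W, hW, hmem, hWU⟩ := exists_isAffineOpen_mem_and_subset
        (U := x.ker.support.compl) (x := f.fiberι y (genericPoint (f.fiber y)))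
        (genericPoint_notMem f hdim x hx y)
      refine le_genLocus ?_ hmem
      have := isGen_formSec_of_disjoint x.ker ⟨W, hW⟩
        (Set.disjoint_left.2 fun z hz hz' => hWU hz hz')
      rw [← rs_sv s (le_top : W ≤ ⊤), hs]
      exact this
    · have := (f.range_fiberι y).le ⟨genericPoint (f.fiber y), rfl⟩
      simpa using this
  have h1 : ∀ y, CohIII.fiberRank f L 0 y = 1 := fun y => by
    refine le_antisymm (hle1 y) ?_
    have hLy : PicF.IsInvertible (CohIII.fiberMod f L y) := PicLoc.isInvertible_pullback _ hL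
    haveI := (Curves.Degree.isGood (k := S.residueField y) (hdim y).le hLy).fin₀
    letI := Curves.GlobalSections.secModule (S.residueField y) (CohIII.fiberMod f L y)
    haveI : Nontrivial ((CohIII.fiberMod f L y).val.obj (op ⊤) : Type u) :=
      ⟨⟨unitSec (f.fiberι y) L (sv t ⊤), 0, SectionFix.fibre_sec_ne_zero f t hL y (hne y)⟩⟩
    haveI : Nontrivial (Coh.HH (f.fiber y) (CohIII.fiberMod f L y) 0) :=
      (Curves.GlobalSections.h0Linear (S.residueField y)
        (CohIII.fiberMod f L y)).symm.injective.nontrivial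
    show 0 < Curves.Euler.hdim (S.residueField y) (f.fiber y) (CohIII.fiberMod f L y) 0
    exact Module.finrank_pos
  refine ⟨SectionFix.isInvertible_push f t hL hne h1, fun u => ?_⟩
  obtain ⟨a, ha⟩ := SectionFix.exists_eq_smul f t hL hne h1
    (θ.inv.app ⊤ (show Γ(D, (⊤ : C.Opens)) from formSec u) : Γ(L, f ⁻¹ᵁ ⊤))
  refine ⟨a, app_of_formSec_eq ?_⟩
  have h2 := congrArg (θ.hom.app (f ⁻¹ᵁ ⊤)) ha
  rw [Scheme.Modules.Hom.app_smul] at h2
  have h3 : ∀ w : Γ(D, (⊤ : C.Opens)), θ.hom.app ⊤ (θ.inv.app ⊤ w) = w := fun w =>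
    congrArg (fun φ => Scheme.Modules.Hom.app φ ⊤ w) θ.inv_hom_id
  refine ((h3 _).symm.trans h2).trans ?_
  show (show Γ(C, (⊤ : C.Opens)) from f.app ⊤ a) • θ.hom.app ⊤ (θ.inv.app ⊤ (sv s ⊤)) = _
  rw [h3, hs]
  rfl

include hdim hx hL hLx in
/-- A section with an isomorphic ideal is the same section. -/
theorem eq_of_iso (hg : ∀ s : S, 1 ≤ CohIII.fiberRank f (Coh.structureModule C) 1 s)
    [HasInjectiveResolutions C.Modules] (x' : S ⟶ C) (hx' : x' ≫ f = 𝟙 S)
    (φ : ClSub.idealMod x'.ker ≅ ClSub.idealMod x.ker) : x' = x := by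
  haveI := isClosedImmersion_section f x hx
  haveI := isClosedImmersion_section f x' hx'
  obtain ⟨a, ha⟩ := (push_and_sections f hdim x hx hL hLx hg).2 (φ.inv ≫ ClSub.idealModι x'.ker)
  have hle : x'.ker ≤ x.ker := by
    intro U r hr
    obtain ⟨m, rfl⟩ := (Lib.ClSub.Sections.mem_range_idealModι_app_affine_iff x'.ker U r).2 hr
    have h := ha U.1 (φ.hom.app U.1 m)
    have hm : φ.inv.app U.1 (φ.hom.app U.1 m) = m :=
      congrArg (fun ψ => Scheme.Modules.Hom.app ψ U.1 m) φ.hom_inv_id
    have h' : (show Γ(C, U.1) from (ClSub.idealModι x'.ker).app U.1 m) =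
        rf le_top (show Γ(C, ⊤) from f.app ⊤ a) *
          (show Γ(C, U.1) from (ClSub.idealModι x.ker).app U.1 (φ.hom.app U.1 m)) := by
      rw [← h]
      exact (congrArg ((ClSub.idealModι x'.ker).app U.1) hm).symm
    refine (congrArg (· ∈ x.ker.ideal U) h').mpr ?_
    exact Ideal.mul_mem_left _ _
      ((Lib.ClSub.Sections.mem_range_idealModι_app_affine_iff x.ker U _).1 ⟨_, rfl⟩)
  have hl := IsClosedImmersion.lift_fac x' x hle
  have hid : IsClosedImmersion.lift x' x hle = 𝟙 S := by
    have h := congrArg (· ≫ f) hl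
    simp only [Category.assoc] at h
    rw [hx, hx', Category.comp_id] at h
    exact h
  rw [hid, Category.id_comp] at hl
  exact hl

end Family

end Groth.Agent.H34.DegOneSection
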