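import Groth.Agent.Lib.ExchangeFP29.FieldPoint
import Groth.Agent.Lib.ExchangeFP29.Main
import Groth.Agent.H54.BCX.Main
import Groth.Agent.H34.AbelMono
import Groth.Agent.Lib.HilbD.Basic
import Groth.Prelude.Def_FGA

/-!
# The degree function on the relative Picard scheme of a curve
-/

set_option autoImplicit false
set_option linter.style.haveILetI false
universe u

open CategoryTheory CategoryTheory.Limits AlgebraicGeometry Opposite TopologicalSpace

noncomputable section

namespace Groth.Agent.H34.PicDegree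

open Groth.Agent Groth.Agent.Lib

variable {C S : Scheme.{u}} (f : C ⟶ S)

/-- The fibre degree. -/
def D (T : Over S) (L : (PicF.XT f T).Modules) (t : T.left) : ℤ :=
  ((CohIII.fiberRank (PicF.XTproj f T) L 0 t : ℤ) - CohIII.fiberRank (PicF.XTproj f T) L 1 t) -
    ((CohIII.fiberRank (PicF.XTproj f T) (Coh.structureModule _) 0 t : ℤ) -
      CohIII.fiberRank (PicF.XTproj f T) (Coh.structureModule _) 1 t)

theorem eulerCharLE_eq (T : Over S) (L : (PicF.XT f T).Modules) (t : T.left) :
    FGA.eulerCharLE (T.left.residueField t) (FGA.fibreAt f T t).left (FGA.restrFibre f T t L) 1 =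
      (CohIII.fiberRank (PicF.XTproj f T) L 0 t : ℤ) - CohIII.fiberRank (PicF.XTproj f T) L 1 t := by
  rw [FGA.eulerCharLE, Finset.sum_range_succ, Finset.sum_range_one, pow_zero, pow_one, one_mul,
    neg_one_mul, ← sub_eq_add_neg]
  rfl

attribute [local instance] CanonFam.fibOver

theorem fiberRank_congr {X' T : Scheme.{u}} (p : X' ⟶ T) {L M : X'.Modules} (e : L ≅ M) (i : ℕ)
    (t : T) : CohIII.fiberRank p L i t = CohIII.fiberRank p M i t :=
  Curves.Euler.hdim_eq_of_iso (k := T.residueField t)
    ((Scheme.Modules.pullback (p.fiberι t)).mapIso e) i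

theorem D_congr {T : Over S} {L M : (PicF.XT f T).Modules} (e : L ≅ M) (t : T.left) :
    D f T L t = D f T M t := by
  simp only [D, fiberRank_congr _ e]

theorem eulerCharLE_sub (T : Over S) (L : (PicF.XT f T).Modules) (t : T.left) :
    FGA.eulerCharLE (T.left.residueField t) (FGA.fibreAt f T t).left (FGA.restrFibre f T t L) 1 -
      FGA.eulerCharLE (T.left.residueField t) (FGA.fibreAt f T t).left
        (Coh.structureModule (FGA.fibreAt f T t).left) 1 = D f T L t := by
  rw [eulerCharLE_eq, D]
  congr 1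
  rw [← eulerCharLE_eq]
  unfold FGA.eulerCharLE
  refine Finset.sum_congr rfl fun i _ => ?_
  congr 1
  exact_mod_cast Curves.Euler.hdim_eq_of_iso (k := T.left.residueField t)
    (X := (PicF.XTproj f T).fiber t) (PicLoc.pullbackStructureIso ((PicF.XTproj f T).fiberι t)).symm i

variable [IsProper f] [Flat f] [LocallyOfFinitePresentation f]

instance isProper_proj (T : Over S) : IsProper (PicF.XTproj f T) :=
  inferInstanceAs (IsProper (pullback.snd f T.hom))

instance flat_proj (T : Over S) : Flat (PicF.XTproj f T) :=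
  inferInstanceAs (Flat (pullback.snd f T.hom))

instance lfp_proj (T : Over S) : LocallyOfFinitePresentation (PicF.XTproj f T) :=
  inferInstanceAs (LocallyOfFinitePresentation (pullback.snd f T.hom))

theorem fiberRank_pull {T T' : Over S} (q : T' ⟶ T) (L : (PicF.XT f T).Modules)
    (hL : PicF.IsInvertible L) (i : ℕ) (t : T'.left) :
    CohIII.fiberRank (PicF.XTproj f T') ((Scheme.Modules.pullback (PicF.XTmap f q)).obj L) i t =
      CohIII.fiberRank (PicF.XTproj f T) L i (q.left t) := by
  have hL' := TensorMod.LocFree.of_rank (TensorMod.LocFree.of_isInvertible hL)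
  haveI : L.IsQuasicoherent := TensorMod.QCohInv.isQCoh_of_isInvertible hL
  exact ExchangeFP29.FieldPoint.fiberRank_baseChange (PicF.XTproj f T) L
    (TensorMod.FPConv.isFP_of_isFinLocFree hL')
    (_root_.ZarCoh.Exchange.NearFibre.isFlatOver_of_isFinLocFree _ hL') q.left (PicF.XTmap f q)
    (PicF.XTproj f T') (HilbD.Basic.isPullback_XTmap f q) i t

theorem D_pull {T T' : Over S} (q : T' ⟶ T) (L : (PicF.XT f T).Modules)
    (hL : PicF.IsInvertible L) (t : T'.left) :
    D f T' ((Scheme.Modules.pullback (PicF.XTmap f q)).obj L) t = D f T L (q.left t) := by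
  have hO := PicLoc.isInvertible_structureModule (PicF.XT f T)
  simp only [D, fiberRank_pull f q L hL,
    ← fiberRank_pull f q _ hO, fiberRank_congr _ (PicLoc.pullbackStructureIso (PicF.XTmap f q))]

variable (hdim : ∀ s : S, topologicalKrullDim ↥(f.fiber s) = 1)

include hdim in
theorem eulerChar_eq (T : Over S) (L : (PicF.XT f T).Modules) (hL : PicF.IsInvertible L) (t : T.left) :
    PerfAux.eulerChar (PicF.XTproj f T) L t =
      (CohIII.fiberRank (PicF.XTproj f T) L 0 t : ℤ) - CohIII.fiberRank (PicF.XTproj f T) L 1 t := by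
  have hL' := TensorMod.LocFree.of_rank (TensorMod.LocFree.of_isInvertible hL)
  haveI : L.IsQuasicoherent := TensorMod.QCohInv.isQCoh_of_isInvertible hL
  have hd : topologicalKrullDim ↥((PicF.XTproj f T).fiber t) ≤ ((1 : ℕ) : WithBot ℕ∞) := by
    rw [AbelMono.dim_fiber_baseChange f (IsPullback.of_hasPullback f T.hom) t, hdim]
    exact le_rfl
  unfold PerfAux.eulerChar
  rw [finsum_eq_sum_of_support_subset _ (s := Finset.range 2)]
  · rw [Finset.sum_range_succ, Finset.sum_range_one, pow_zero, pow_one, one_mul, neg_one_mul,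
      ← sub_eq_add_neg, ExchangeFP29.Main.betti_eq, ExchangeFP29.Main.betti_eq]
  · intro p hp
    simp only [Finset.coe_range, Set.mem_Iio]
    by_contra hp2
    apply hp
    haveI := H54.BCX.Main.subsingleton_fiberH (f := PicF.XTproj f T) (F := L) t hd (i := p) (by omega)
    show (-1 : ℤ) ^ p * _ = 0
    rw [ExchangeFP29.Main.betti_eq, (ExchangeFP29.Main.fiberRank_eq_zero_iff (PicF.XTproj f T) L
      (TensorMod.FPConv.isFP_of_isFinLocFree hL') t p).2 inferInstance]
    simp

include hdim in
theorem isLocallyConstant_D (T : Over S) (L : (PicF.XT f T).Modules) (hL : PicF.IsInvertible L) :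
    IsLocallyConstant (D f T L) := by
  have key : ∀ M : (PicF.XT f T).Modules, PicF.IsInvertible M → IsLocallyConstant fun t : T.left =>
      (CohIII.fiberRank (PicF.XTproj f T) M 0 t : ℤ) - CohIII.fiberRank (PicF.XTproj f T) M 1 t := by
    intro M hM
    have hM' := TensorMod.LocFree.of_rank (TensorMod.LocFree.of_isInvertible hM)
    haveI : M.IsQuasicoherent := TensorMod.QCohInv.isQCoh_of_isInvertible hM
    have h := ExchangeFP29.Main.isLocallyConstant_eulerChar (PicF.XTproj f T) M
      (TensorMod.FPConv.isFP_of_isFinLocFree hM')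
      (_root_.ZarCoh.Exchange.NearFibre.isFlatOver_of_isFinLocFree _ hM')
    rwa [show (fun s => PerfAux.eulerChar (PicF.XTproj f T) M s) = _ from
      funext (eulerChar_eq f hdim T M hM)] at h
  exact (key L hL).sub (key _ (PicLoc.isInvertible_structureModule _))

/-- A cover in the fppf precoverage has, through each point, a flat member of finite presentation. -/
theorem exists_mem_cover {Y : Scheme.{u}} {R : Presieve Y} (hR : R ∈ Scheme.fppfPrecoverage Y) (y : Y) :
    ∃ (V : Scheme.{u}) (v : V ⟶ Y), R v ∧ y ∈ Set.range v ∧ Flat v ∧ LocallyOfFinitePresentation v := by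
  obtain ⟨h₁, h₂⟩ := hR
  obtain ⟨Z, g, hg, hy⟩ := h₁ y
  cases hg with
  | of hf => exact ⟨_, _, hf, hy, (h₂ hf).1, (h₂ hf).2⟩

variable (P : Over S) (φ : ∀ T : Over S, PicF.Cl (PicF.XT f T) → (T ⟶ P))
  (hP : AbDual.IsRelPicK Scheme.fppfPrecoverage f P φ)

include hP in
/-- Modules with the same point have the same degree. -/
theorem D_eq_of_eq {T : Over S} {L M : (PicF.XT f T).Modules} (hL : PicF.IsInvertible L)
    (hM : PicF.IsInvertible M) (h : φ T (PicF.cl L) = φ T (PicF.cl M)) (t : T.left) :
    D f T L t = D f T M t := by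
  obtain ⟨R, hR, hloc⟩ := hP.locallyInjective T _ _ ⟨L, rfl, hL⟩ ⟨M, rfl, hM⟩ h
  obtain ⟨V, u, hu, ⟨v, rfl⟩, -, -⟩ := exists_mem_cover hR t
  obtain ⟨e⟩ := (PicGrp.cl_eq_cl_iff _ _).1 (hloc u hu)
  exact (D_pull f (AbDual.ovrHom T u) L hL v).symm.trans
    ((D_congr f e v).trans (D_pull f (AbDual.ovrHom T u) M hM v))

include hP in
/-- Two representatives through the same point have the same degree. -/
theorem D_eq_of_point {T T' : Over S} {L : (PicF.XT f T).Modules} {M : (PicF.XT f T').Modules}
    (hL : PicF.IsInvertible L) (hM : PicF.IsInvertible M) {t : T.left} {t' : T'.left}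
    (h : (φ T (PicF.cl L)).left t = (φ T' (PicF.cl M)).left t') : D f T L t = D f T' M t' := by
  set a := φ T (PicF.cl L)
  set b := φ T' (PicF.cl M)
  obtain ⟨w, hw1, hw2⟩ := Scheme.Pullback.exists_preimage_pullback t t' h
  let W : Over S := Over.mk (pullback.fst a.left b.left ≫ T.hom)
  let q : W ⟶ T := Over.homMk (pullback.fst a.left b.left)
  let q' : W ⟶ T' := Over.homMk (pullback.snd a.left b.left) (by
    show _ ≫ T'.hom = pullback.fst a.left b.left ≫ T.hom
    rw [← Over.w a, ← Over.w b, ← Category.assoc, ← pullback.condition, Category.assoc])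
  have heq : φ W (PicF.cl ((Scheme.Modules.pullback (PicF.XTmap f q)).obj L)) =
      φ W (PicF.cl ((Scheme.Modules.pullback (PicF.XTmap f q')).obj M)) :=
    (hP.natural T W q _ ⟨L, rfl, hL⟩).trans ((Over.OverMorphism.ext pullback.condition :
      q ≫ a = q' ≫ b).trans (hP.natural T' W q' _ ⟨M, rfl, hM⟩).symm)
  have h1 := D_eq_of_eq f P φ hP (PicLoc.isInvertible_pullback _ hL) (PicLoc.isInvertible_pullback _ hM) heq w
  rw [D_pull f q L hL, D_pull f q' M hM] at h1
  have e1 : q.left w = t := hw1
  have e2 : q'.left w = t' := hw2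
  rwa [e1, e2] at h1

include hdim hP in
/-- The degree function. -/
theorem exists_degree : ∃ d : ↥P.left → ℤ, IsLocallyConstant d ∧
    ∀ (T : Over S) (L : (PicF.XT f T).Modules), PicF.IsInvertible L → ∀ t : T.left,
      d ((φ T (PicF.cl L)).left.base t) = D f T L t := by
  obtain ⟨R, hR, hloc⟩ := hP.locallySurjective P (𝟙 P)
  have hpt : ∀ p : P.left, ∃ (U : Over S) (M : (PicF.XT f U).Modules) (z : U.left),
      PicF.IsInvertible M ∧ IsOpenMap (φ U (PicF.cl M)).left ∧ (φ U (PicF.cl M)).left z = p := by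
    intro p
    obtain ⟨V, u, hu, ⟨v, hv⟩, hfl, hfp⟩ := exists_mem_cover hR p
    obtain ⟨c, ⟨M, rfl, hM⟩, hc⟩ := hloc u hu
    have hl : (φ (AbDual.ovr P u) (PicF.cl M)).left = u := by
      rw [hc, Category.comp_id]; rfl
    refine ⟨AbDual.ovr P u, M, v, hM, ?_, ?_⟩
    · rw [hl]; exact u.isOpenMap
    · rw [hl]; exact hv
  choose U M z hM ho hz using hpt
  have key : ∀ (T : Over S) (L : (PicF.XT f T).Modules), PicF.IsInvertible L → ∀ t : T.left,
      D f (U ((φ T (PicF.cl L)).left t)) (M _) (z _) = D f T L t := fun T L hL t =>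
    D_eq_of_point f P φ hP (hM _) hL (hz _)
  refine ⟨fun p => D f (U p) (M p) (z p), ?_, key⟩
  rw [IsLocallyConstant.iff_exists_open]
  intro p
  obtain ⟨O, hO, hzO, hconst⟩ :=
    (isLocallyConstant_D f hdim (U p) (M p) (hM p)).exists_open (z p)
  refine ⟨(φ (U p) (PicF.cl (M p))).left '' O, ho p O hO, ⟨z p, hzO, hz p⟩, ?_⟩
  rintro _ ⟨w, hw, rfl⟩
  exact (key (U p) (M p) (hM p) w).trans (hconst w hw)

end Groth.Agent.H34.PicDegree
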