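import Groth.Agent.H34.Stein.FiniteEtale
import Groth.Agent.H34.CanonFam
import Groth.Agent.H97.CurvePositivity
import Groth.Agent.Lib.Ample.Pow

/-!
# The differentials of a smooth proper irreducible curve with `h⁰(O) < h¹(O)` are ample
-/

set_option autoImplicit false
set_option linter.style.haveILetI false
universe u

open CategoryTheory CategoryTheory.Limits AlgebraicGeometry TopologicalSpace

noncomputable section

namespace Groth.Agent.H34.OmegaAmple

open Groth.Agent Groth.Agent.Lib

variable {k : Type u} [Field k] {X : Scheme.{u}}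

/-- The map to an étale Stein factor of a smooth morphism is smooth. -/
theorem smooth_toNormalization {S : Scheme.{u}} (f : X ⟶ S) [IsProper f] [Smooth f]
    [Etale f.fromNormalization] : Smooth f.toNormalization := by
  let σ : X ⟶ pullback f f.fromNormalization :=
    pullback.lift (𝟙 X) f.toNormalization (by simp)
  have hσ : σ ≫ pullback.fst f f.fromNormalization = 𝟙 X := pullback.lift_fst _ _ _
  have he : Etale (pullback.fst f f.fromNormalization) := inferInstance
  have : Etale σ := MorphismProperty.of_postcomp @Etale (W' := @Etale) σ _ he (by rw [hσ]; infer_instance)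
  have hb : σ ≫ pullback.snd f f.fromNormalization = f.toNormalization := pullback.lift_snd _ _ _
  rw [← hb]
  infer_instance

/-- The structure over the field of global functions. -/
theorem exists_field [IrreducibleSpace X] (c : X ⟶ Spec (CommRingCat.of k)) [IsProper c] [Smooth c] :
    ∃ (K : Type u) (_ : Field K) (c' : X ⟶ Spec (CommRingCat.of K))
      (φ : CommRingCat.of k ⟶ CommRingCat.of K),
      c' ≫ Spec.map φ = c ∧ Etale (Spec.map φ) ∧ IsProper c' ∧ Smooth c' ∧
        GeometricallyConnected c' := by
  haveI : IsReduced X := GrpSch.isReduced_of_smooth_field c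
  haveI : IsIntegral X := isIntegral_of_irreducibleSpace_of_isReduced X
  haveI : GeometricallyReduced c := ⟨fun K _ y P p q h => by
    have : Smooth q := MorphismProperty.of_isPullback h ‹Smooth c›
    exact GrpSch.isReduced_of_smooth_field q⟩
  obtain ⟨hfin, het⟩ := Stein.finite_etale_fromNormalization c
  haveI := hfin
  haveI := het
  haveI := smooth_toNormalization c
  haveI := Stein.isProper_toNormalization c
  haveI := Stein.geometricallyConnected_toNormalization c
  let N := c.normalization
  haveI : IsAffine N := isAffine_of_isAffineHom c.fromNormalization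
  let A := Γ(N, ⊤)
  haveI hiso : IsIso (c.toNormalization.app ⊤) := Groth.Agent.S1340.result c ⊤
  haveI : Nonempty (c.toNormalization ⁻¹ᵁ (⊤ : N.Opens)) := by
    rw [Scheme.Hom.preimage_top]; exact ⟨⟨Classical.arbitrary X, trivial⟩⟩
  haveI : IsDomain A :=
    (asIso (c.toNormalization.app ⊤)).commRingCatIsoToRingEquiv.toMulEquiv.isDomain _
  let φ₀ : Γ(Spec (CommRingCat.of k), ⊤) ⟶ A := c.fromNormalization.appTop
  let φ : CommRingCat.of k ⟶ CommRingCat.of A := (Scheme.ΓSpecIso (CommRingCat.of k)).inv ≫ φ₀
  have hφ : φ.hom.Finite := by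
    have h0 : φ₀.hom.Finite := c.fromNormalization.finite_app ⊤ (isAffineOpen_top _)
    exact h0.comp (RingHom.Finite.of_surjective _
      (Scheme.ΓSpecIso (CommRingCat.of k)).commRingCatIsoToRingEquiv.symm.surjective)
  letI : Algebra k A := φ.hom.toAlgebra
  haveI : Module.Finite k A := hφ
  have hA : IsField A := isField_of_isIntegral_of_isField' (Field.toIsField k)
  letI := hA.toField
  have hmap : N.isoSpec.hom ≫ Spec.map φ = c.fromNormalization := by
    rw [Spec.map_comp, ← Category.assoc]
    rw [Scheme.isoSpec_hom_naturality, Category.assoc, Scheme.isoSpec, asIso_hom,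
      toSpecΓ_SpecMap_ΓSpecIso_inv, Category.comp_id]
  refine ⟨A, inferInstance, c.toNormalization ≫ N.isoSpec.hom, φ, ?_, ?_, inferInstance,
    inferInstance, ?_⟩
  · exact (Category.assoc _ _ _).trans ((congrArg (c.toNormalization ≫ ·) hmap).trans
      c.toNormalization_fromNormalization)
  · exact (MorphismProperty.cancel_left_of_respectsIso @Etale N.isoSpec.hom _).1
      (by rw [hmap]; exact het)
  · exact (MorphismProperty.cancel_right_of_respectsIso @GeometricallyConnected _ _).2 inferInstance

/-- Ampleness of the differentials. -/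
theorem isAmple_omega [IrreducibleSpace X] [X.Over (Spec (CommRingCat.of k))]
    [IsProper (X ↘ Spec (CommRingCat.of k))] [Smooth (X ↘ Spec (CommRingCat.of k))]
    (hdim : topologicalKrullDim X = 1)
    (hg : Module.finrank k (Coh.HH X (Coh.structureModule X) 0) <
      Module.finrank k (Coh.HH X (Coh.structureModule X) 1)) :
    CohB1.IsAmple (Omega.sheaf (X ↘ Spec (CommRingCat.of k))) := by
  let c := X ↘ Spec (CommRingCat.of k)
  haveI : IsReduced X := GrpSch.isReduced_of_smooth_field c
  haveI : IsIntegral X := isIntegral_of_irreducibleSpace_of_isReduced X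
  obtain ⟨K, _, c', φ, hc, het, hp, hs, hgc⟩ := exists_field c
  letI oX : X.Over (Spec (CommRingCat.of K)) := ⟨c'⟩
  haveI : IsProper (X ↘ Spec (CommRingCat.of K)) := hp
  haveI : Smooth (X ↘ Spec (CommRingCat.of K)) := hs
  haveI : GeometricallyConnected (X ↘ Spec (CommRingCat.of K)) := hgc
  letI : Algebra k K := φ.hom.toAlgebra
  have hrank : ∀ i, Module.finrank k (Coh.HH X (Coh.structureModule X) i) =
      Module.finrank k K * Module.finrank K (Coh.HH X (Coh.structureModule X) i) := fun i => by
    haveI : IsScalarTower k K (Coh.HH X (Coh.structureModule X) i) :=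
      IsScalarTower.of_algebraMap_smul fun r m => by
        show Coh.toGlobal (X := X) (A := K) c' (φ r) • m = Coh.toGlobal (X := X) (A := k) c r • m
        refine congrArg (· • m) ?_
        rw [← ZarCoh.Exchange.LocalRep.toGlobal_comp φ c' r]
        exact congrArg (fun h => Coh.toGlobal (X := X) (A := k) h r) hc
    exact (Module.finrank_mul_finrank k K _).symm
  have h0 := CurveFF.finrank_h0_eq_one K X
  rw [hrank 0, hrank 1, h0, mul_one] at hg
  have hg2 : 2 ≤ Curv2.genus K X := by
    show 2 ≤ Module.finrank K (Coh.HH X (Coh.structureModule X) 1)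
    by_contra h
    push Not at h
    interval_cases (Module.finrank K (Coh.HH X (Coh.structureModule X) 1)) <;> omega
  obtain ⟨-, hd⟩ := CurveFF.SmoothBC.omega_facts (k := K) (X := X) hdim h0
  have hamp : CohB1.IsAmple (Omega.sheaf (X ↘ Spec (CommRingCat.of K))) :=
    H97.CurvePositivity.isAmple_of_deg_pos (k := K) hdim
      (CurveFF.SmoothBC.isInvertible (k := K) hdim) (by omega)
  haveI := het
  haveI : QuasiSeparated c' := inferInstanceAs (QuasiSeparated (X ↘ Spec (CommRingCat.of K)))
  obtain ⟨e, he, -⟩ := Kaehler.Basic.existsUnique_diffCompat (h := 𝟙 X) (b := Spec.map φ)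
    (f := c) (f' := c') (by rw [Category.id_comp]; exact hc)
    (Kaehler.DOmega.isUniversal_dOmega c) (OmegaSh.dOmega c')
  haveI := Kaehler.BaseChange.isIso_of_etale (h := 𝟙 X) (b := Spec.map φ) (f := c) (f' := c')
    (by rw [Category.id_comp]; exact hc)
    (Kaehler.DOmega.isUniversal_dOmega c) (Kaehler.DOmega.isUniversal_dOmega c') e he
  exact Ample.Pow.isAmple_of_iso
    ((asIso e).symm ≪≫ (Scheme.Modules.pullbackId X).app (Omega.sheaf c)) hamp

end Groth.Agent.H34.OmegaAmple
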