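import Groth.Agent.Lib.ExchangeFP29.Algebra
import Groth.Agent.Lib.Exchange.LocalRep
import Groth.Agent.Lib.Exchange.Proper
import Groth.Agent.H54.BCX.Main

/-!
# `H⁰` is projective when `H¹` is, for fibres of dimension at most one
-/

set_option autoImplicit false
set_option linter.style.haveILetI false
universe u

open CategoryTheory CategoryTheory.Limits AlgebraicGeometry
open Groth.Agent Groth.Agent.Lib
open _root_.ZarCoh.Exchange _root_.ZarCoh.Exchange.Main
open Groth.Agent.Lib.FlatCx.Basic

namespace Groth.Agent.H34.H0OfH1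

noncomputable section

variable {R : Type u} [CommRing R] [IsNoetherianRing R] {X : Scheme.{u}}
  [X.Over (Spec (CommRingCat.of R))] [IsProper (X ↘ Spec (CommRingCat.of R))]

local notation "pX" => (X ↘ Spec (CommRingCat.of R))

/-- The fibre homology of a representing complex vanishes above the fibre dimension. -/
theorem dRank_eq_zero {d : ℕ} (hdim : ∀ s, topologicalKrullDim ↥((pX).fiber s) ≤ d) (F : X.Modules)
    [F.IsQuasicoherent] {P : ChainComplex (ModuleCat.{u} R) ℤ} {p : ℕ} (hp : d < p)
    (e : CohIII.TFun P (-(p : ℤ)) ⋙ forget₂ (ModuleCat.{u} R) AddCommGrpCat.{u} ≅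
      CohIII.tensorAFunctor R F ⋙ CohIII.HAb X p) (x : PrimeSpectrum R) :
    CohIII.dRank P (-(p : ℤ)) x = 0 := by
  let y : Spec (CommRingCat.of R) := x
  let θ : (Spec (CommRingCat.of R)).residueField y ≅ CommRingCat.of x.asIdeal.ResidueField :=
    Scheme.Spec.residueFieldIso (CommRingCat.of R) x
  have hθ : Spec.map θ.hom ≫ (Spec (CommRingCat.of R)).fromSpecResidueField y =
      Spec.map (CommRingCat.ofHom (algebraMap R x.asIdeal.ResidueField)) := by
    rw [← Scheme.Spec.map_residueFieldIso_inv_eq_fromSpecResidueField, ← Category.assoc,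
      ← Spec.map_comp, Iso.inv_hom_id, Spec.map_id, Category.id_comp]
  haveI := H54.BCX.Main.subsingleton_fiberH (f := pX) (F := F) y (hdim y) hp
  letI : ((pX).fiber y).Over (Spec (CommRingCat.of x.asIdeal.ResidueField)) :=
    ⟨(pX).fiberToSpecResidueField y ≫ Spec.map θ.inv⟩
  have hbig : IsPullback ((pX).fiberι y)
      ((pX).fiber y ↘ Spec (CommRingCat.of x.asIdeal.ResidueField)) pX
      (Spec.map (CommRingCat.ofHom (algebraMap R x.asIdeal.ResidueField))) := by
    refine IsPullback.of_iso (IsPullback.of_hasPullback pX _)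
      (Iso.refl _) (Iso.refl _) (asIso (Spec.map θ.inv)) (Iso.refl _) ?_ ?_ ?_ ?_
    · exact (Category.comp_id _).trans (Category.id_comp _).symm
    · exact (Category.id_comp _).symm
    · exact (Category.comp_id _).trans (Category.id_comp _).symm
    · rw [Iso.refl_hom, Category.comp_id, asIso_hom, ← hθ, ← Category.assoc, ← Spec.map_comp,
        Iso.hom_inv_id, Spec.map_id, Category.id_comp]
  obtain ⟨E⟩ := Fibre.nonempty_linearEquiv hbig F e
  haveI : Subsingleton ((CohIII.bcCx (algebraMap R x.asIdeal.ResidueField) P).homology (-(p : ℤ))) :=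
    E.symm.injective.subsingleton
  exact Module.finrank_zero_of_subsingleton

/-- `H⁰` is projective when `H¹` is and the fibres are curves. -/
theorem projective_h0 (hdim : ∀ s, topologicalKrullDim ↥((pX).fiber s) ≤ ((1 : ℕ) : WithBot ℕ∞)) (F : X.Modules)
    (hF : Coh.IsCoh F) (hfl : FlatMod.IsFlatOver pX F) (h1 : Module.Projective R (Coh.HH X F 1)) :
    Module.Projective R (Coh.HH X F 0) := by
  haveI : F.IsQuasicoherent := hF.1
  obtain ⟨b, P, hb, hfin, hfree, hpos, he⟩ := Proper.exists_rep R F hF hfl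
  have hflat : ∀ i, Module.Finite R (P.X i) ∧ Module.Flat R (P.X i) := fun i =>
    ⟨hfin i, haveI := hfree i; inferInstance⟩
  have hG : ExchangeFP29.Algebra.IsGood P :=
    ⟨fun i => ⟨hfin i, haveI := hfree i; inferInstance⟩, ⟨b, hb⟩, hpos⟩
  have hH : ∀ p : ℕ, Nonempty (Coh.HH X F p ≃ₗ[R] P.homology (-(p : ℤ))) := fun p => by
    obtain ⟨e⟩ := he p
    exact ⟨(Curves.LES.isoK R (oneIso R F) p).symm.trans
      ((linearEquivApp R F e (ModuleCat.of R R)).symm.trans (tOne R P _))⟩
  obtain ⟨e2⟩ := he 2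
  haveI h2 : Module.Flat R (Q P (-2)) := by
    simpa using (hG.of_dRank_eq_zero (-((2 : ℕ) : ℤ)) (-3) (by simp)
      (dRank_eq_zero (d := 1) hdim F (by omega) e2)).2.1
  obtain ⟨i1⟩ := hH 1
  have hq : Module.Flat R (Q P (-1)) := by
    haveI : Module.Projective R (P.homology (-1)) := Module.Projective.of_equiv (R := R) (i1)
    exact _root_.ZarCoh.Exchange.Free.flat_Q_of_homology P hflat (-1) (-2) (by omega) inferInstance
  obtain ⟨-, h0, -⟩ := hG.homology_projective 0 (-1) (by omega) (hG.flat_Q_nonneg 0 le_rfl) hq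
  obtain ⟨i0⟩ := hH 0
  haveI : Module.Projective R (P.homology (-((0 : ℕ) : ℤ))) := by simpa using h0
  exact Module.Projective.of_equiv i0.symm

end

end Groth.Agent.H34.H0OfH1
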