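import Mathlib.RingTheory.Kaehler.Basic
import Mathlib.RingTheory.Unramified.Field
import Mathlib.RingTheory.LocalRing.ResidueField.Basic

/-! Generators of free rank-one modules of differentials over local rings. -/

namespace Groth.Agent.H34.KaehlerRankOne

open IsLocalRing TensorProduct

variable {k B : Type*} [Field k] [CommRing B] [Algebra k B] [IsLocalRing B]
  (e : Ω[B⁄k] ≃ₗ[B] B)

include e

/-- An element whose image in the differentials of the residue field is nonzero is a generator. -/
theorem isUnit_of_map_D_ne_zero (b : B)
    (h : KaehlerDifferential.D k (ResidueField B) (residue B b) ≠ 0) :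
    IsUnit (e (KaehlerDifferential.D k B b)) := by
  by_contra hu
  apply h
  have hm : residue B (e (KaehlerDifferential.D k B b)) = 0 :=
    (residue_eq_zero_iff _).2 ((mem_maximalIdeal _).2 hu)
  have hx : KaehlerDifferential.D k B b =
      e (KaehlerDifferential.D k B b) • e.symm 1 := by
    apply e.injective
    rw [map_smul, e.apply_symm_apply, smul_eq_mul, mul_one]
  have := congrArg (KaehlerDifferential.map k k B (ResidueField B)) hx
  rw [KaehlerDifferential.map_D, map_smul, ← algebraMap_smul (ResidueField B),
    ResidueField.algebraMap_eq, hm, zero_smul] at this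
  exact this

/-- If the residue field is unramified over `k`, a generator of the maximal ideal has a differential
generating the module of differentials. -/
theorem isUnit_D_of_maximalIdeal_eq [Algebra.FormallyUnramified k (ResidueField B)] (s : B)
    (hs : maximalIdeal B = Ideal.span {s}) :
    IsUnit (e (KaehlerDifferential.D k B s)) := by
  by_contra hu
  let κ := ResidueField B
  have hzero : ∀ x : Ω[B⁄k], e x ∈ maximalIdeal B → (1 : κ) ⊗ₜ[B] x = 0 := by
    intro x hx
    have : x = e x • e.symm 1 := by
      apply e.injective; rw [map_smul, e.apply_symm_apply, smul_eq_mul, mul_one]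
    rw [this, tmul_smul, smul_tmul', Algebra.smul_def, mul_one, ResidueField.algebraMap_eq,
      (residue_eq_zero_iff _).2 hx, zero_tmul]
  have hall : ∀ x : κ ⊗[B] Ω[B⁄k], x = 0 := by
    intro x
    obtain ⟨x, rfl⟩ := (KaehlerDifferential.exact_kerCotangentToTensor_mapBaseChange k B κ
      residue_surjective x).mp (Subsingleton.elim _ _)
    obtain ⟨⟨a, ha⟩, rfl⟩ := Ideal.toCotangent_surjective _ x
    simp only [KaehlerDifferential.kerCotangentToTensor_toCotangent]
    have ha' : a ∈ maximalIdeal B := by
      rw [RingHom.mem_ker, ResidueField.algebraMap_eq] at ha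
      exact (residue_eq_zero_iff a).1 ha
    rw [hs, Ideal.mem_span_singleton'] at ha'
    obtain ⟨c, rfl⟩ := ha'
    apply hzero
    rw [Derivation.leibniz, map_add, map_smul, map_smul, smul_eq_mul, smul_eq_mul]
    refine add_mem (Ideal.mul_mem_left _ _ ((mem_maximalIdeal _).2 hu)) (Ideal.mul_mem_right _ _ ?_)
    rw [hs]; exact Ideal.mem_span_singleton_self s
  have h1 := congrArg (TensorProduct.rid B κ) (congrArg (LinearMap.lTensor κ e.toLinearMap)
    (hall ((1 : κ) ⊗ₜ[B] e.symm 1)))
  rw [LinearMap.lTensor_tmul, map_zero, map_zero, LinearEquiv.coe_coe, e.apply_symm_apply,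
    TensorProduct.rid_tmul, one_smul] at h1
  exact one_ne_zero h1

end Groth.Agent.H34.KaehlerRankOne
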