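import Groth.Agent.Lib.Excellent.NormalFibres
import Groth.Agent.Lib.DescAlg.SmoothNormal
import Groth.Prelude.Def_Pi1
import Mathlib.AlgebraicGeometry.Geometrically.Reduced
import Mathlib.AlgebraicGeometry.Morphisms.Smooth
import Mathlib.AlgebraicGeometry.Pullbacks

/-!
# Flat families with smooth generic fibre and reduced fibres over a normal base are normal
-/

set_option autoImplicit false
universe u

open CategoryTheory CategoryTheory.Limits AlgebraicGeometry
open scoped TensorProduct

namespace Groth.Agent.H34.NormalTotal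

theorem normal_of_equiv {R S : Type u} [CommRing R] [CommRing S] (e : R ≃+* S)
    (h : IsDomain R ∧ IsIntegrallyClosed R) : IsDomain S ∧ IsIntegrallyClosed S :=
  Groth.Agent.Lib.Excellent.NormalRing.isoInvariant_domainIntClosed R S e h

/-- A flat scheme of finite type over a normal integral Noetherian scheme with smooth generic fibre and
geometrically reduced fibres is normal. -/
theorem isNormalScheme {C S : Scheme.{u}} (f : C ⟶ S) [IsIntegral S] [IsLocallyNoetherian S]
    (hS : Pi1.IsNormalScheme S) [Flat f] [LocallyOfFiniteType f] [GeometricallyReduced f]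
    [Smooth (f.fiberToSpecResidueField (genericPoint S))] : Pi1.IsNormalScheme C := by
  intro x
  obtain ⟨U, hU, hxU, -⟩ :=
    exists_isAffineOpen_mem_and_subset (show f x ∈ (⊤ : S.Opens) from trivial)
  obtain ⟨V, hV, hxV, hVU⟩ := exists_isAffineOpen_mem_and_subset (show x ∈ f ⁻¹ᵁ U from hxU)
  haveI : IsLocallyNoetherian C := LocallyOfFiniteType.isLocallyNoetherian f
  haveI : Nonempty U := ⟨⟨f x, hxU⟩⟩
  haveI : IsNoetherianRing Γ(S, U) := IsLocallyNoetherian.component_noetherian ⟨U, hU⟩
  haveI : IsNoetherianRing Γ(C, V) := IsLocallyNoetherian.component_noetherian ⟨V, hV⟩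
  let φ := f.appLE U V hVU
  letI : Algebra Γ(S, U) Γ(C, V) := φ.hom.toAlgebra
  haveI : Module.Flat Γ(S, U) Γ(C, V) := f.flat_appLE hU hV hVU
  have hV' : Spec.map φ ≫ hU.fromSpec = hV.fromSpec ≫ f := hU.SpecMap_appLE_fromSpec f hV hVU
  haveI : IsIntegrallyClosed Γ(S, U) := IsIntegrallyClosed.of_localization_maximal fun P _ hP => by
    haveI := hP.isPrime
    let y : U := ⟨hU.fromSpec ⟨P, hP.isPrime⟩, by
      have : hU.fromSpec ⟨P, hP.isPrime⟩ ∈ Set.range hU.fromSpec := ⟨_, rfl⟩
      rwa [hU.range_fromSpec] at this⟩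
    letI := S.presheaf.algebra_section_stalk y
    haveI : IsLocalization.AtPrime (S.presheaf.stalk y.1) P := hU.isLocalization_stalk' ⟨P, hP.isPrime⟩ y.2
    exact (normal_of_equiv (IsLocalization.algEquiv P.primeCompl (S.presheaf.stalk y.1)
      (Localization.AtPrime P)).toRingEquiv (hS y.1)).2
  -- ring fibres as scheme fibres
  have hfibre : ∀ (P : Ideal Γ(S, U)) [P.IsPrime],
      ∃ (ι : Spec (CommRingCat.of P.ResidueField) ⟶ S) (w : Spec (CommRingCat.of (P.Fiber Γ(C, V))) ⟶ pullback f ι),
        IsOpenImmersion w ∧ ι default = hU.fromSpec ⟨P, inferInstance⟩ ∧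
        w ≫ pullback.snd f ι = Spec.map (CommRingCat.ofHom (algebraMap P.ResidueField (P.Fiber Γ(C, V)))) := by
    intro P _
    let ρ : Spec (CommRingCat.of P.ResidueField) ⟶ Spec Γ(S, U) :=
      Spec.map (CommRingCat.ofHom (algebraMap Γ(S, U) P.ResidueField))
    let ι := ρ ≫ hU.fromSpec
    let l : Spec (CommRingCat.of (P.Fiber Γ(C, V))) ⟶ Spec (CommRingCat.of P.ResidueField) :=
      Spec.map (CommRingCat.ofHom (algebraMap P.ResidueField (P.Fiber Γ(C, V))))
    let r : Spec (CommRingCat.of (P.Fiber Γ(C, V))) ⟶ Spec Γ(C, V) :=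
      Spec.map (CommRingCat.ofHom (Algebra.TensorProduct.includeRight (R := Γ(S, U)) (A := P.ResidueField)
        (B := Γ(C, V))).toRingHom)
    have hsq : IsPullback r l (Spec.map φ) ρ :=
      (isPullback_SpecMap_of_isPushout _ _ _ _
        (CommRingCat.isPushout_tensorProduct Γ(S, U) P.ResidueField Γ(C, V))).flip
    let VU : Spec Γ(C, V) ⟶ pullback f hU.fromSpec := pullback.lift hV.fromSpec (Spec.map φ) hV'.symm
    haveI : IsOpenImmersion (VU ≫ pullback.fst f hU.fromSpec) := by
      rw [pullback.lift_fst]; infer_instance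
    haveI : IsOpenImmersion VU := IsOpenImmersion.of_comp VU (pullback.fst f hU.fromSpec)
    let w : Spec (CommRingCat.of (P.Fiber Γ(C, V))) ⟶ pullback f ι :=
      pullback.lift (r ≫ hV.fromSpec) l (by
        rw [Category.assoc, ← hV', ← Category.assoc, hsq.w, Category.assoc])
    let q : pullback f ι ⟶ pullback f hU.fromSpec :=
      pullback.lift (pullback.fst f ι) (pullback.snd f ι ≫ ρ) (by rw [Category.assoc, pullback.condition])
    have hq : IsPullback q (pullback.snd f ι) (pullback.snd f hU.fromSpec) ρ := by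
      refine IsPullback.of_right ?_ (pullback.lift_snd _ _ _) (IsPullback.of_hasPullback f hU.fromSpec)
      rw [pullback.lift_fst]
      exact IsPullback.of_hasPullback f ι
    have hw : IsPullback r w VU q := by
      refine IsPullback.of_bot ?_ ?_ hq
      · rw [pullback.lift_snd, pullback.lift_snd]; exact hsq
      · refine pullback.hom_ext ?_ ?_
        · simp only [VU, w, q, Category.assoc, pullback.lift_fst]
        · simp only [VU, w, q, Category.assoc, pullback.lift_snd, pullback.lift_snd_assoc]
          exact hsq.w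
    refine ⟨ι, w, MorphismProperty.of_isPullback hw inferInstance, ?_, pullback.lift_snd _ _ _⟩
    rw [Scheme.Hom.comp_apply]
    congr 1
    refine PrimeSpectrum.ext ?_
    change Ideal.comap (algebraMap Γ(S, U) P.ResidueField) _ = P
    rw [show (default : Spec (CommRingCat.of P.ResidueField)).asIdeal = ⊥ from Ideal.eq_bot_of_prime _]
    exact Ideal.ker_algebraMap_residueField P
  have hgen : EGA4.IsNormalRing ((⊥ : Ideal Γ(S, U)).Fiber Γ(C, V)) := by
    obtain ⟨ι, w, hw, hι, hwsnd⟩ := hfibre ⊥
    let K := (⊥ : Ideal Γ(S, U)).ResidueField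
    have hη : ι (IsLocalRing.closedPoint K) = genericPoint S := by
      rw [Subsingleton.elim (IsLocalRing.closedPoint K) (default : Spec (CommRingCat.of K)), hι]
      refine genericPoint_eq_of_isOpenImmersion hU.fromSpec ▸ congrArg hU.fromSpec ?_
      exact (genericPoint_eq_bot_of_affine Γ(S, U)).symm
    obtain ⟨ψ, hψ⟩ : ∃ ψ : S.residueField (genericPoint S) ⟶ CommRingCat.of K,
        Spec.map ψ ≫ S.fromSpecResidueField (genericPoint S) = ι := by
      rw [← hη]
      exact ⟨_, Scheme.descResidueField_stalkClosedPointTo_fromSpecResidueField K _ ι⟩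
    subst hψ
    haveI : Smooth (pullback.snd f (Spec.map ψ ≫ S.fromSpecResidueField (genericPoint S))) := by
      rw [← pullbackLeftPullbackSndIso_inv_snd_snd f (S.fromSpecResidueField (genericPoint S)) (Spec.map ψ)]
      haveI : Smooth (pullback.snd f (S.fromSpecResidueField (genericPoint S))) :=
        ‹Smooth (f.fiberToSpecResidueField (genericPoint S))›
      haveI : Smooth (pullback.snd (pullback.snd f (S.fromSpecResidueField (genericPoint S))) (Spec.map ψ)) :=
        MorphismProperty.pullback_snd _ _ inferInstance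
      infer_instance
    have hsm : Smooth (Spec.map (CommRingCat.ofHom (algebraMap K ((⊥ : Ideal Γ(S, U)).Fiber Γ(C, V))))) := by
      rw [← hwsnd]; infer_instance
    rw [HasRingHomProperty.Spec_iff (P := @Smooth)] at hsm
    haveI : Algebra.Smooth K ((⊥ : Ideal Γ(S, U)).Fiber Γ(C, V)) := RingHom.smooth_algebraMap.1 hsm
    exact Groth.Agent.Lib.DescAlg.SmoothNormal.isNormalRing_of_field K
  have hred : ∀ (P : Ideal Γ(S, U)) [P.IsPrime], P ≠ ⊥ → _root_.IsReduced (P.Fiber Γ(C, V)) := by
    intro P _ _
    obtain ⟨ι, w, hw, -, -⟩ := hfibre P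
    haveI : IsReduced (pullback f ι) :=
      GeometricallyReduced.geometrically_isReduced (f := f) ι _ _ (IsPullback.of_hasPullback f ι)
    haveI := isReduced_of_isOpenImmersion w
    exact (affine_isReduced_iff _).1 this
  have hN := Groth.Agent.Lib.Excellent.NormalFibres.isNormalRing_of_domain Γ(S, U) Γ(C, V) hgen hred
  letI := C.presheaf.algebra_section_stalk ⟨x, hxV⟩
  haveI := hV.isLocalization_stalk ⟨x, hxV⟩
  exact normal_of_equiv (IsLocalization.algEquiv (hV.primeIdealOf ⟨x, hxV⟩).asIdeal.primeCompl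
    (Localization.AtPrime (hV.primeIdealOf ⟨x, hxV⟩).asIdeal) (C.presheaf.stalk x)).toRingEquiv (hN _)

end Groth.Agent.H34.NormalTotal
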