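import Groth.Agent.H34.OmegaAmple
import Groth.Agent.S12128

/-!
# Relative ampleness of the differentials
-/

set_option autoImplicit false
set_option linter.style.haveILetI false
universe u

open CategoryTheory CategoryTheory.Limits AlgebraicGeometry TopologicalSpace

noncomputable section

namespace Groth.Agent.H34.OmegaRelAmple

open Groth.Agent Groth.Agent.Lib

attribute [local instance] CanonFam.fibOver

variable {C S : Scheme.{u}} (f : C ⟶ S) [IsProper f] [Smooth f]
  (hirr : ∀ s : S, IrreducibleSpace ↥(f.fiber s))
  (hdim : ∀ s : S, topologicalKrullDim ↥(f.fiber s) = 1)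

include hirr hdim

/-- The relative differentials form an invertible module. -/
theorem isInvertible_omega : PicF.IsInvertible (Omega.sheaf f) := by
  refine TensorMod.LocFree.isInvertible_of_rank_one fun x => ?_
  obtain ⟨U, m, hx, hiso, hm⟩ :=
    Kaehler.SmoothChart.exists_free_fibreDim (Kaehler.DOmega.isUniversal_dOmega f) x
  haveI := hirr (f x)
  haveI : LocallyOfFiniteType (f.fiberToSpecResidueField (f x)) :=
    MorphismProperty.pullback_snd _ _ (inferInstance : LocallyOfFiniteType f)
  have : FlatMor.fibreDimAt f x = 1 := by
    show FlatMor.localDim (f.fiber (f x)) (f.asFiber x) = 1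
    rw [JacCrit.OverField.localDim_eq_of_irreducible (K := S.residueField (f x))
      (f.fiberToSpecResidueField (f x)) (f.asFiber x), hdim]
  rw [this] at hm
  obtain rfl : 1 = m := by exact_mod_cast hm
  exact ⟨U, hx, hiso⟩

/-- The relative differentials are relatively ample when `h⁰(O) < h¹(O)` on the fibres. -/
theorem isRelAmple_omega
    (hg : ∀ s : S, CohIII.fiberRank f (Coh.structureModule C) 0 s <
      CohIII.fiberRank f (Coh.structureModule C) 1 s) :
    RelAmple.IsRelAmple f (Omega.sheaf f) := by
  refine (Groth.Agent.S12128.result f _ (isInvertible_omega f hirr hdim)).2 fun s => ?_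
  haveI := hirr s
  haveI : IsProper (f.fiber s ↘ Spec (CommRingCat.of (S.residueField s))) :=
    show IsProper (f.fiberToSpecResidueField s) from MorphismProperty.pullback_snd _ _ ‹IsProper f›
  haveI : Smooth (f.fiber s ↘ Spec (CommRingCat.of (S.residueField s))) :=
    show Smooth (f.fiberToSpecResidueField s) from MorphismProperty.pullback_snd _ _ ‹Smooth f›
  obtain ⟨w⟩ := CanonFam.nonempty_fibre_omega f s
  refine Ample.Pow.isAmple_of_iso w.symm (OmegaAmple.isAmple_omega (k := S.residueField s) (hdim s) ?_)
  have h := hg s
  have e : ∀ i, CohIII.fiberRank f (Coh.structureModule C) i s =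
      Module.finrank (S.residueField s) (Coh.HH (f.fiber s) (Coh.structureModule (f.fiber s)) i) :=
    fun i => Curves.Euler.hdim_eq_of_iso (k := S.residueField s)
      (PicLoc.pullbackStructureIso (f.fiberι s)) i
  rw [e, e] at h
  exact h

end Groth.Agent.H34.OmegaRelAmple
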