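import Groth.Agent.H34.KaehlerRankOne
import Mathlib.RingTheory.Unramified.LocalRing
import Mathlib.RingTheory.Etale.Kaehler
import Mathlib.RingTheory.Etale.Field
import Mathlib.RingTheory.Nakayama
import Mathlib.RingTheory.Flat.FaithfullyFlat.Algebra

/-! Ramified extensions of local rings with rank-one differentials. -/

namespace Groth.Agent.H34.Ramified

open IsLocalRing TensorProduct

universe v w

variable {k : Type w} [Field k] {A B : Type w} [CommRing A] [CommRing B] [Algebra k A] [Algebra k B]
  [Algebra A B] [IsScalarTower k A B] [IsLocalRing A] [IsLocalRing B] [IsLocalHom (algebraMap A B)]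

/-- If the extension is ramified with separable residue extension, the residue field of the base is
separable over `k`. -/
theorem isSeparable_residueField [Algebra.EssFiniteType k A] [Algebra.EssFiniteType k B]
    [IsNoetherianRing B] (eA : Ω[A⁄k] ≃ₗ[A] A) (eB : Ω[B⁄k] ≃ₗ[B] B)
    [Algebra.IsSeparable (ResidueField A) (ResidueField B)]
    (hB : maximalIdeal B ≠ ⊥)
    (hram : (maximalIdeal A).map (algebraMap A B) ≤ maximalIdeal B ^ 2) :
    Algebra.IsSeparable k (ResidueField A) := by
  by_contra hns
  have hess : Algebra.EssFiniteType k (ResidueField A) :=
    inferInstanceAs (Algebra.EssFiniteType k (A ⧸ maximalIdeal A))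
  obtain ⟨a, ha⟩ : ∃ a : A, KaehlerDifferential.D k (ResidueField A) (residue A a) ≠ 0 := by
    by_contra hall
    push Not at hall
    apply hns
    have : Subsingleton Ω[ResidueField A⁄k] := by
      refine subsingleton_of_forall_eq 0 fun w => ?_
      have hw : w ∈ Submodule.span (ResidueField A)
          (Set.range (KaehlerDifferential.D k (ResidueField A))) := by
        rw [KaehlerDifferential.span_range_derivation]; trivial
      induction hw using Submodule.span_induction with
      | zero => rfl
      | mem w h =>
        obtain ⟨b, rfl⟩ := h
        obtain ⟨a, rfl⟩ := residue_surjective b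
        exact hall a
      | add _ _ _ _ h₁ h₂ => simp [h₁, h₂]
      | smul _ _ _ h => simp [h]
    have : Algebra.FormallyUnramified k (ResidueField A) := ⟨this⟩
    exact Algebra.FormallyUnramified.isSeparable k _
  -- the differential of `a` survives in the residue field of `B`
  have : Algebra.FormallyEtale (ResidueField A) (ResidueField B) :=
    Algebra.FormallyEtale.of_isSeparable _ _
  have hb : KaehlerDifferential.D k (ResidueField B) (residue B (algebraMap A B a)) ≠ 0 := by
    intro h0
    apply ha
    have hsq : residue B (algebraMap A B a) =
        algebraMap (ResidueField A) (ResidueField B) (residue A a) := rfl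
    rw [hsq] at h0
    have := congrArg (KaehlerDifferential.tensorKaehlerEquivOfFormallyEtale k (ResidueField A)
      (ResidueField B)).symm h0
    rw [KaehlerDifferential.tensorKaehlerEquivOfFormallyEtale_symm_D_algebraMap, map_zero] at this
    have hinj : Function.Injective
        (TensorProduct.mk (ResidueField A) (ResidueField B) Ω[ResidueField A⁄k] 1) :=
      Module.FaithfullyFlat.tensorProduct_mk_injective _
    exact hinj (by simpa using this)
  have hu := KaehlerRankOne.isUnit_of_map_D_ne_zero eB _ hb
  -- hence `B` is unramified over `A`
  have hsub : Subsingleton Ω[B⁄A] := by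
    refine subsingleton_of_forall_eq 0 fun w => ?_
    obtain ⟨v, rfl⟩ := KaehlerDifferential.map_surjective k A B w
    have hv : v = (eB v * hu.unit⁻¹) • KaehlerDifferential.D k B (algebraMap A B a) := by
      apply eB.injective
      simp only [map_smul, smul_eq_mul, mul_assoc, IsUnit.val_inv_mul, mul_one]
    rw [hv, map_smul, KaehlerDifferential.map_D, Algebra.algebraMap_self_apply,
      Derivation.map_algebraMap, smul_zero]
  have : Algebra.FormallyUnramified A B := ⟨hsub⟩
  have : Algebra.EssFiniteType A B := Algebra.EssFiniteType.of_comp k A B
  apply hB
  have hmm : maximalIdeal B ≤ maximalIdeal B • maximalIdeal B := by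
    rw [smul_eq_mul, ← sq]
    exact (Algebra.FormallyUnramified.map_maximalIdeal (R := A) (S := B)).ge.trans hram
  exact Submodule.eq_bot_of_le_smul_of_le_jacobson_bot _ _
    (IsNoetherian.noetherian _) hmm (maximalIdeal_le_jacobson _)

end Groth.Agent.H34.Ramified
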