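import Groth.Agent.Lib.ExchangeFP29.Epi
import Groth.Agent.Lib.Cube.FibreGen
import Groth.Agent.Lib.TensorMod.FPConv
import Groth.Agent.Lib.Exchange.NearFibre
import Groth.Agent.Lib.Curves.GlobalSections

/-!
# Invertible modules with one section on every fibre
-/

set_option autoImplicit false
set_option linter.style.haveILetI false
universe u

open CategoryTheory CategoryTheory.Limits AlgebraicGeometry Opposite TopologicalSpace

noncomputable section

namespace Groth.Agent.H34.SectionFix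

open Groth.Agent.Lib TensorMod TensorMod.Dual TensorMod.Gen TensorMod.Pullback TensorMod.HomGlue
open Ample.GenLocus

variable {X S : Scheme.{u}} (f : X ⟶ S) {L : X.Modules} (t : Coh.structureModule X ⟶ L)

/-- A zero section does not generate on a nonempty open. -/
theorem not_isGen_zero {Y : Scheme.{u}} {M : Y.Modules} {U : Y.Opens} {y : Y} (hy : y ∈ U)
    {e : Γ(M, U)} (he : IsGen M U e) : e ≠ 0 := by
  rintro rfl
  have h : (1 : Γ(Y, U)) = 0 := (he U le_rfl).1 (by
    show (1 : Γ(Y, U)) • rs M le_rfl (0 : Γ(M, U)) = (0 : Γ(Y, U)) • rs M le_rfl (0 : Γ(M, U))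
    rw [rs_self, smul_zero, smul_zero])
  haveI : Nonempty U := ⟨⟨y, hy⟩⟩
  exact one_ne_zero h

/-- The restriction of a section to a fibre meeting its locus is nonzero. -/
theorem fibre_sec_ne_zero (hL : PicF.IsInvertible L) (y : S)
    (hne : ∃ x ∈ CohB1.genLocus L t, f x = y) :
    unitSec (f.fiberι y) L (sv t ⊤) ≠ 0 := by
  intro h0
  obtain ⟨x, hx, hxy⟩ := hne
  subst hxy
  let z := f.asFiber x
  have hz : z ∈ (f.fiberι (f x)) ⁻¹ᵁ CohB1.genLocus L t := by
    show f.fiberι (f x) (f.asFiber x) ∈ CohB1.genLocus L t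
    rwa [Scheme.Hom.fiberι_asFiber]
  rw [← genLocus_pullback (f.fiberι (f x)) hL t
    (PicLoc.pullbackStructureIso (f.fiberι (f x))).symm] at hz
  obtain ⟨U, hzU, hU⟩ := (mem_genLocus_iff _).1 hz
  refine not_isGen_zero hzU hU ?_
  rw [← rs_sv _ (le_top : U ≤ ⊤)]
  have h1 : sv ((PicLoc.pullbackStructureIso (f.fiberι (f x))).inv ≫
      (pb (f.fiberι (f x))).map t) ((f.fiberι (f x)) ⁻¹ᵁ ⊤) = 0 :=
    (sv_pullback (f.fiberι (f x)) t ⊤).trans h0
  exact (congrArg (rs _ (le_top : U ≤ ⊤)) h1).trans (map_zero _)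

variable [IsProper f] [LocallyOfFinitePresentation f] [Flat f]
  (hL : PicF.IsInvertible L)
  (hne : ∀ y : S, ∃ x ∈ CohB1.genLocus L t, f x = y)
  (h1 : ∀ y : S, CohIII.fiberRank f L 0 y = 1)

/-- The section of the direct image. -/
def τ : Coh.structureModule S ⟶ (Coh.push f).obj L :=
  (exists_hom_of_sec (L := (Coh.push f).obj L)
    (show Γ((Coh.push f).obj L, (⊤ : S.Opens)) from sv t (f ⁻¹ᵁ ⊤))).choose

theorem sv_τ : sv (τ f t) ⊤ = sv t (f ⁻¹ᵁ ⊤) :=
  (exists_hom_of_sec (L := (Coh.push f).obj L)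
    (show Γ((Coh.push f).obj L, (⊤ : S.Opens)) from sv t (f ⁻¹ᵁ ⊤))).choose_spec

include hL hne in
/-- The transpose of the section on the fibre. -/
theorem bc0Adj_ne_zero (y : S) :
    ((CohBC.bc0Adj f (S.fromSpecResidueField y) (f.fiberToSpecResidueField y) (f.fiberι y)
      (f.fiber_fac y) L).app ⊤ (sv t (f ⁻¹ᵁ ⊤))) ≠ 0 := by
  intro h
  refine fibre_sec_ne_zero f t hL y (hne y) ?_
  refine Eq.trans ?_ h
  refine Eq.trans ?_ (Cube.FibreGen.bc0Adj_app f (S.fromSpecResidueField y)
    (f.fiberToSpecResidueField y) (f.fiberι y) (f.fiber_fac y) L ⊤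
    (Cube.FibreGen.preimage_le f _ _ _ (f.fiber_fac y) ⊤) _).symm
  exact (rs_self _ _ _).symm

include hL hne in
/-- The section generates the fibre, so it survives the base change map. -/
theorem sv_pullback_τ_ne_zero (y : S) :
    unitSec (S.fromSpecResidueField y) ((Coh.push f).obj L)
      (sv t (f ⁻¹ᵁ ⊤) : Γ((Coh.push f).obj L, (⊤ : S.Opens))) ≠ 0 := by
  intro h
  refine bc0Adj_ne_zero f t hL hne y ?_
  have hadj : CohBC.bc0Adj f (S.fromSpecResidueField y) (f.fiberToSpecResidueField y) (f.fiberι y)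
      (f.fiber_fac y) L = (pbAdj (S.fromSpecResidueField y)).unit.app _ ≫
        (Scheme.Modules.pushforward (S.fromSpecResidueField y)).map
          (CohBC.bc0 f (S.fromSpecResidueField y) (f.fiberToSpecResidueField y) (f.fiberι y)
            (f.fiber_fac y) L) := by
    refine Eq.trans ?_ ((pbAdj (S.fromSpecResidueField y)).homEquiv_unit _ _ _)
    exact (Equiv.apply_symm_apply _ _).symm
  rw [hadj]
  show (CohBC.bc0 f (S.fromSpecResidueField y) (f.fiberToSpecResidueField y) (f.fiberι y)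
      (f.fiber_fac y) L).app _ (unitSec (S.fromSpecResidueField y) ((Coh.push f).obj L)
        (sv t (f ⁻¹ᵁ ⊤) : Γ((Coh.push f).obj L, (⊤ : S.Opens)))) = 0
  rw [h]
  exact map_zero _

include hL hne h1 in
/-- Base change to every fibre is onto. -/
theorem fibSurj (y : S) : ExchangeFP29.Main.FibSurj f L y := by
  refine ExchangeFP29.Main.fibSurj_of_epi f L y ?_
  let g := S.fromSpecResidueField y
  let p := f.fiberToSpecResidueField y
  letI : (f.fiber y).Over (Spec (CommRingCat.of (S.residueField y))) := ⟨p⟩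
  letI := Curves.GlobalSections.secModule (S.residueField y) (CohIII.fiberMod f L y)
  let T : ((CohIII.fiberMod f L y).val.obj (op ⊤) : Type u) :=
    (CohBC.bc0Adj f g p (f.fiberι y) (f.fiber_fac y) L).app ⊤ (sv t (f ⁻¹ᵁ ⊤))
  have hT : T ≠ 0 := bc0Adj_ne_zero f t hL hne y
  have hfin : Module.finrank (S.residueField y)
      ((CohIII.fiberMod f L y).val.obj (op ⊤) : Type u) = 1 :=
    (Curves.GlobalSections.h0Linear (S.residueField y)
      (CohIII.fiberMod f L y)).finrank_eq.symm.trans (h1 y)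
  refine ⟨fun {Z} φ ψ h => ?_⟩
  have h2 : CohBC.bc0Adj f g p (f.fiberι y) (f.fiber_fac y) L ≫ (Scheme.Modules.pushforward g).map φ =
      CohBC.bc0Adj f g p (f.fiberι y) (f.fiber_fac y) L ≫ (Scheme.Modules.pushforward g).map ψ := by
    have e : ((pbAdj g).homEquiv _ _) (CohBC.bc0 f g p (f.fiberι y) (f.fiber_fac y) L) =
        CohBC.bc0Adj f g p (f.fiberι y) (f.fiber_fac y) L := Equiv.apply_symm_apply _ _
    have h3 := congrArg (fun x => (pbAdj g).homEquiv _ _ x) h
    simp only [Adjunction.homEquiv_naturality_right] at h3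
    rw [e] at h3
    exact h3
  have ht : φ.app (⊤ : (Spec (S.residueField y)).Opens) T = ψ.app (⊤ : (Spec (S.residueField y)).Opens) T :=
    congrArg (fun x => x.app ⊤ (sv t (f ⁻¹ᵁ ⊤))) h2
  haveI : Subsingleton (Spec (S.residueField y)) :=
    inferInstanceAs (Subsingleton (PrimeSpectrum (S.residueField y)))
  refine Scheme.Modules.hom_ext _ _ fun U => ?_
  by_cases hU : ∃ z, z ∈ U
  · obtain ⟨z, hz⟩ := hU
    obtain rfl : U = ⊤ := eq_top_iff.2 fun w _ => (Subsingleton.elim z w) ▸ hz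
    ext v
    obtain ⟨c, hc⟩ := exists_smul_eq_of_finrank_eq_one hfin hT
      (show ((CohIII.fiberMod f L y).val.obj (op ⊤) : Type u) from v)
    let a : Γ(Spec (S.residueField y), ⊤) := (Scheme.ΓSpecIso (S.residueField y)).inv c
    have hv : v = a • (show Γ((Scheme.Modules.pushforward p).obj (CohIII.fiberMod f L y),
        (⊤ : (Spec (S.residueField y)).Opens)) from T) := hc.symm
    rw [hv, Scheme.Modules.Hom.app_smul, Scheme.Modules.Hom.app_smul]
    exact congrArg (a • ·) ht
  · obtain rfl : U = ⊥ := eq_bot_iff.2 fun w hw => (hU ⟨w, hw⟩).elim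
    haveI := Cube.FibreGen.subsingleton_sections_bot Z (U := (⊥ : (Spec (S.residueField y)).Opens)) rfl
    ext v
    exact Subsingleton.elim (α := Γ(Z, ⊥)) _ _

include hL hne h1 in
/-- The direct image is invertible. -/
theorem isInvertible_push [HasInjectiveResolutions X.Modules] :
    PicF.IsInvertible ((Coh.push f).obj L) := by
  refine TensorMod.LocFree.isInvertible_of_rank_one fun y => ?_
  have hF' := TensorMod.LocFree.of_rank (TensorMod.LocFree.of_isInvertible hL)
  have hF : CohB1.IsFP L := TensorMod.FPConv.isFP_of_isFinLocFree hF'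
  haveI : L.IsQuasicoherent :=
    have : SheafOfModules.IsFinitePresentation (R := X.ringCatSheaf) L := hF
    inferInstance
  have hfl : FlatMod.IsFlatOver f L := _root_.ZarCoh.Exchange.NearFibre.isFlatOver_of_isFinLocFree f hF'
  obtain ⟨V, hV, hyV, -⟩ := exists_isAffineOpen_mem_and_subset (U := ⊤) (x := y) trivial
  haveI : IsAffine (V : Scheme.{u}) := hV
  obtain ⟨P, hP, he, -, hq⟩ := ExchangeFP29.Main.exists_of_fibSurj f L hF hfl V
    fun z _ => fibSurj f t hL hne h1 z
  obtain ⟨e⟩ := he 0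
  obtain ⟨W, hW, ⟨i⟩⟩ := ExchangeFP29.Main.exists_free_nhd f L 0 hP e
    (hP.flat_Q_nonneg _ (by simp)) (by simpa using hq) hyV
  obtain ⟨z⟩ := ExchangeFP29.Main.nonempty_zeroIso f L
  rw [h1 y] at i
  exact ⟨W, hW, ⟨(Scheme.Modules.restrictFunctor W.ι).mapIso z.symm ≪≫ i⟩⟩

include hL hne in
/-- The section generates the direct image near every point. -/
theorem genLocus_τ (hM : PicF.IsInvertible ((Coh.push f).obj L)) :
    CohB1.genLocus ((Coh.push f).obj L) (τ f t) = ⊤ := by
  refine eq_top_iff.2 fun y _ => ?_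
  let g := S.fromSpecResidueField y
  let z : Spec (S.residueField y) := IsLocalRing.closedPoint (S.residueField y)
  haveI : Subsingleton (Spec (S.residueField y)) :=
    inferInstanceAs (Subsingleton (PrimeSpectrum (S.residueField y)))
  suffices z ∈ g ⁻¹ᵁ CohB1.genLocus ((Coh.push f).obj L) (τ f t) by
    have h : g z ∈ CohB1.genLocus ((Coh.push f).obj L) (τ f t) := this
    rwa [Scheme.fromSpecResidueField_apply] at h
  rw [← genLocus_pullback g hM (τ f t) (PicLoc.pullbackStructureIso g).symm]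
  obtain ⟨U, e, hzU, he⟩ := isInvertible_iff.1 (PicLoc.isInvertible_pullback g hM) z
  obtain rfl : U = ⊤ := eq_top_iff.2 fun w _ => (Subsingleton.elim z w) ▸ hzU
  have hs : sv ((PicLoc.pullbackStructureIso g).inv ≫ (pb g).map (τ f t)) (g ⁻¹ᵁ ⊤) =
      unitSec g _ (sv (τ f t) ⊤) := sv_pullback g (τ f t) ⊤
  obtain ⟨a, ha⟩ := exists_coord he
    (sv ((PicLoc.pullbackStructureIso g).inv ≫ (pb g).map (τ f t)) (g ⁻¹ᵁ ⊤))
  have ha0 : a ≠ 0 := by
    rintro rfl
    rw [zero_smul, hs, sv_τ] at ha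
    exact sv_pullback_τ_ne_zero f t hL hne y ha
  have hau : IsUnit a := by
    have hne' : (Scheme.ΓSpecIso (S.residueField y)).hom a ≠ 0 := fun h => ha0
      ((ConcreteCategory.bijective_of_isIso (Scheme.ΓSpecIso (S.residueField y)).hom).1
        (h.trans (map_zero (Scheme.ΓSpecIso (S.residueField y)).hom.hom).symm))
    have := (isUnit_iff_ne_zero.2 hne').map (Scheme.ΓSpecIso (S.residueField y)).inv.hom
    rwa [Iso.hom_inv_id_apply] at this
  refine le_genLocus ?_ hzU
  show IsGen _ (g ⁻¹ᵁ ⊤) (sv _ (g ⁻¹ᵁ ⊤))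
  rw [Iso.symm_hom, ha]
  exact IsGen_smul_isUnit he hau

include hL hne h1 in
/-- Every section is a multiple of the given one by a function on the base. -/
theorem exists_eq_smul [HasInjectiveResolutions X.Modules] (m : Γ(L, f ⁻¹ᵁ ⊤)) :
    ∃ a : Γ(S, ⊤), m = f.app ⊤ a • sv t (f ⁻¹ᵁ ⊤) := by
  have hM := isInvertible_push f t hL hne h1
  have hg : IsGen ((Coh.push f).obj L) (⊤ : S.Opens) (sv (τ f t) ⊤) := by
    refine GenLocal.isGen_of_forall_exists fun y _ => ?_
    obtain ⟨U, hyU, hU⟩ := (mem_genLocus_iff (τ f t)).1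
      (show y ∈ CohB1.genLocus _ (τ f t) from (genLocus_τ f t hL hne hM).ge trivial)
    exact ⟨U, le_top, hyU, by rwa [rs_sv]⟩
  obtain ⟨a, ha⟩ := exists_coord hg (show Γ((Coh.push f).obj L, (⊤ : S.Opens)) from m)
  refine ⟨a, ?_⟩
  rw [sv_τ] at ha
  exact ha

end Groth.Agent.H34.SectionFix
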