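import Mathlib.RingTheory.RingHom.StandardSmooth
import Mathlib.RingTheory.RingHom.Etale
import Mathlib.RingTheory.Smooth.StandardSmoothCotangent
import Mathlib.RingTheory.Kaehler.TensorProduct
import Mathlib.RingTheory.Unramified.Field
import Mathlib.RingTheory.Unramified.LocalRing
import Mathlib.RingTheory.DiscreteValuationRing.TFAE
import Mathlib.RingTheory.Flat.TorsionFree
import Mathlib.RingTheory.Smooth.Flat
import Mathlib.RingTheory.Jacobson.Ring
import Mathlib.RingTheory.Filtration
import Mathlib.RingTheory.Artinian.Ring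

/-!
Local rings of smooth curves at closed points: algebra.
-/

namespace Groth.Agent.H34.SmoothCurveAlg

open IsLocalRing

variable (k : Type*) {C B : Type*} [Field k] [CommRing C] [CommRing B] [Algebra k C] [Algebra k B]
  [Algebra C B] [IsScalarTower k C B] (q : Ideal C) [q.IsMaximal] [IsLocalization.AtPrime B q]

include q

theorem essFiniteType [Algebra.FiniteType k C] : Algebra.EssFiniteType k B :=
  have := Algebra.EssFiniteType.of_isLocalization (S := B) q.primeCompl
  Algebra.EssFiniteType.comp k C B

theorem isNoetherianRing [Algebra.FiniteType k C] : IsNoetherianRing B :=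
  have := Algebra.FiniteType.isNoetherianRing k C
  IsLocalization.isNoetherianRing q.primeCompl B inferInstance

/-- Differentials of the local ring at a point are free of rank one. -/
theorem kaehler_equiv [Algebra.IsStandardSmoothOfRelativeDimension 1 k C] :
    Nonempty (Ω[B⁄k] ≃ₗ[B] B) := by
  have : Algebra.IsStandardSmooth k C :=
    Algebra.IsStandardSmoothOfRelativeDimension.isStandardSmooth 1
  have : Nontrivial C := ⟨⟨0, 1, fun h => (Ideal.IsMaximal.ne_top ‹q.IsMaximal›) ((Ideal.eq_top_iff_one q).2 (h ▸ q.zero_mem))⟩⟩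
  have hr : Module.rank C Ω[C⁄k] = (1 : ℕ) :=
    Algebra.IsStandardSmoothOfRelativeDimension.rank_kaehlerDifferential 1
  have hfr : Module.finrank C Ω[C⁄k] = 1 := Module.finrank_eq_of_rank_eq hr
  have : Algebra.EssFiniteType k C := Algebra.EssFiniteType.of_finiteType k C
  let e : Ω[C⁄k] ≃ₗ[C] C := (Module.finBasisOfFinrankEq C Ω[C⁄k] hfr).equivFun.trans
    (LinearEquiv.funUnique (Fin 1) C C)
  let g := KaehlerDifferential.map k k C B
  have : IsLocalizedModule q.primeCompl g := KaehlerDifferential.isLocalizedModule_map k C B q.primeCompl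
  let h : C →ₗ[C] B := Algebra.linearMap C B
  have : IsLocalizedModule q.primeCompl h := (isLocalizedModule_iff_isLocalization' q.primeCompl B).mpr ‹_›
  exact ⟨LinearEquiv.extendScalarsOfIsLocalization q.primeCompl B
    (IsLocalizedModule.linearEquiv q.primeCompl g (h ∘ₗ e.toLinearMap))⟩

/-- The local ring of a smooth curve at a closed point is a discrete valuation ring. -/
theorem exists_isDiscreteValuationRing [Algebra.IsStandardSmoothOfRelativeDimension 1 k C] :
    ∃ _ : IsDomain B, IsDiscreteValuationRing B := by
  have : Algebra.IsStandardSmooth k C :=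
    Algebra.IsStandardSmoothOfRelativeDimension.isStandardSmooth 1
  have : IsNoetherianRing B := isNoetherianRing k q
  have : IsLocalRing B := IsLocalization.AtPrime.isLocalRing B q
  obtain ⟨g, hg⟩ := Algebra.IsStandardSmoothOfRelativeDimension.exists_etale_mvPolynomial (n := 1) k C
  let P := MvPolynomial (Fin 1) k
  algebraize [g.toRingHom, (algebraMap C B).comp g.toRingHom]
  have : IsScalarTower k P C := IsScalarTower.of_algebraMap_eq fun x => (g.commutes x).symm
  have : Algebra.Etale P C := hg
  have : IsPrincipalIdealRing P := IsPrincipalIdealRing.of_surjective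
    (MvPolynomial.uniqueAlgEquiv k (Fin 1)).symm (MvPolynomial.uniqueAlgEquiv k (Fin 1)).symm.surjective
  let : Field (C ⧸ q) := Ideal.Quotient.field q
  have hfin : Module.Finite k (C ⧸ q) := finite_of_finite_type_of_isJacobsonRing k (C ⧸ q)
  let p : Ideal P := q.comap (algebraMap P C)
  have hpmax : p.IsMaximal := by
    have : Algebra.IsIntegral k (C ⧸ q) := Algebra.IsIntegral.of_finite k _
    let φ : P ⧸ p →ₐ[k] C ⧸ q := Ideal.quotientMapₐ q (IsScalarTower.toAlgHom k P C) le_rfl
    have hφ : Function.Injective φ :=
      Ideal.quotientMap_injective' (H := le_rfl) (le_refl (q.comap (IsScalarTower.toAlgHom k P C).toRingHom))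
    have : Module.Finite k (P ⧸ p) := Module.Finite.of_injective φ.toLinearMap hφ
    have : IsArtinianRing (P ⧸ p) := isArtinian_of_tower k inferInstance
    have : IsDomain (P ⧸ p) := Ideal.Quotient.isDomain p
    exact Ideal.Quotient.maximal_of_isField _ (IsArtinianRing.isField_of_isDomain _)
  have hpbot : p ≠ ⊥ := fun h => Polynomial.not_isField k
    ((MvPolynomial.uniqueAlgEquiv k (Fin 1)).symm.toRingEquiv.toMulEquiv.isField
      ((RingEquiv.quotientBot P).toMulEquiv.symm.isField
        ((Ideal.Quotient.maximal_ideal_iff_isField_quotient (⊥ : Ideal P)).mp (h ▸ hpmax))))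
  have hflat : Module.Flat P B := by
    have : Module.Flat C B := IsLocalization.flat B q.primeCompl
    exact Module.Flat.trans P C B
  obtain ⟨f, hf⟩ := (IsPrincipalIdealRing.principal p).principal
  have hf0 : f ≠ 0 := by rintro rfl; exact hpbot (by simpa using hf)
  have hreg : IsSMulRegular B f := Module.Flat.isSMulRegular_of_nonZeroDivisors
    (mem_nonZeroDivisors_of_ne_zero hf0)
  have hreg' : IsLeftRegular (algebraMap P B f) := fun a b hab => hreg (by
    simpa [Algebra.smul_def] using hab)
  -- the maximal ideal is generated by the image of `f`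
  let J := p.map (algebraMap P B)
  have hJle : J ≤ maximalIdeal B := by
    rw [Ideal.map_le_iff_le_comap, ← IsLocalization.AtPrime.map_eq_maximalIdeal q B,
      IsScalarTower.algebraMap_eq P C B, ← Ideal.comap_comap]
    exact fun x hx => Ideal.mem_comap.2 (Ideal.mem_comap.2 (Ideal.mem_map_of_mem _ hx))
  have hmax : maximalIdeal B = J := by
    have hfu : Algebra.FormallyUnramified P B :=
      have := Algebra.FormallyUnramified.of_isLocalization (Rₘ := B) q.primeCompl
      Algebra.FormallyUnramified.comp P C B
    have hess : Algebra.EssFiniteType P B :=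
      have := Algebra.EssFiniteType.of_isLocalization (S := B) q.primeCompl
      Algebra.EssFiniteType.comp P C B
    let : Field (P ⧸ p) := Ideal.Quotient.field p
    have : IsReduced (B ⧸ J) := Algebra.FormallyUnramified.isReduced_of_field (P ⧸ p) (B ⧸ J)
    have : Module.Finite (P ⧸ p) (B ⧸ J) := Algebra.FormallyUnramified.finite_of_free _ _
    have : IsArtinianRing (B ⧸ J) := isArtinian_of_tower (P ⧸ p) inferInstance
    have : Nontrivial (B ⧸ J) :=
      Ideal.Quotient.nontrivial_iff.mpr (ne_top_of_le_ne_top (maximalIdeal.isMaximal B).ne_top hJle)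
    have : IsLocalRing (B ⧸ J) := .of_surjective' _ Ideal.Quotient.mk_surjective
    have : maximalIdeal (B ⧸ J) = ⊥ := by
      rw [← jacobson_eq_maximalIdeal _ bot_ne_top, IsArtinianRing.jacobson_eq_radical,
        ← Ideal.zero_eq_bot, ← nilradical, nilradical_eq_zero]
    refine le_antisymm ?_ hJle
    exact (IsLocalRing.eq_maximalIdeal (Ideal.Quotient.maximal_of_isField _
      (IsLocalRing.isField_iff_maximalIdeal_eq.mpr this))).ge
  have hspan : maximalIdeal B = Ideal.span {algebraMap P B f} := by
    rw [hmax]
    show p.map (algebraMap P B) = _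
    rw [hf]
    exact (Ideal.map_span _ _).trans (by rw [Set.image_singleton])
  have key : ∀ a : B, a ≠ 0 → ∃ (n : ℕ) (u : B), IsUnit u ∧ a = algebraMap P B f ^ n * u := by
    intro a ha
    obtain ⟨n, hn, hn'⟩ : ∃ n, a ∈ maximalIdeal B ^ n ∧ a ∉ maximalIdeal B ^ (n + 1) := by
      by_contra hcon
      push Not at hcon
      have hall : ∀ n, a ∈ maximalIdeal B ^ n := by
        intro n
        induction n with
        | zero => simp
        | succ n ih => exact hcon n ih
      refine ha ?_
      have := Ideal.iInf_pow_eq_bot_of_isLocalRing (maximalIdeal B) (maximalIdeal.isMaximal B).ne_top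
      simpa [this] using (Ideal.mem_iInf.2 hall : a ∈ ⨅ i, maximalIdeal B ^ i)
    rw [hspan, Ideal.span_singleton_pow, Ideal.mem_span_singleton] at hn hn'
    obtain ⟨u, rfl⟩ := hn
    refine ⟨n, u, ?_, rfl⟩
    by_contra hu
    rw [← mem_nonunits_iff, ← IsLocalRing.mem_maximalIdeal, hspan, Ideal.mem_span_singleton] at hu
    exact hn' (by rw [pow_succ]; exact mul_dvd_mul_left _ hu)
  have hdom : IsDomain B := by
    refine @NoZeroDivisors.to_isDomain B _ _ ⟨fun {a b} hab => ?_⟩
    by_contra hne
    push Not at hne
    obtain ⟨n, u, hu, rfl⟩ := key a hne.1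
    obtain ⟨m, v, hv, rfl⟩ := key b hne.2
    refine (hu.mul hv).ne_zero (hreg'.pow (n + m) ?_)
    simp only [mul_zero]
    linear_combination hab
  refine ⟨hdom, ?_⟩
  refine { (?_ : IsPrincipalIdealRing B) with not_a_field' := ?_ }
  · exact ((tfae_of_isNoetherianRing_of_isLocalRing_of_isDomain B).out 4 0).mp
      (show (maximalIdeal B).IsPrincipal from ⟨⟨_, hspan⟩⟩)
  · intro h
    rw [hspan, Ideal.span_singleton_eq_bot] at h
    exact hreg'.ne_zero h

end Groth.Agent.H34.SmoothCurveAlg
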