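import Groth.Prelude.Def_CurvBase
import Groth.Agent.H34.SmoothCurveAlg
import Mathlib.AlgebraicGeometry.Morphisms.Smooth

/-!
Local rings of smooth curves over a field at closed points.
-/

universe u

open CategoryTheory AlgebraicGeometry TopologicalSpace

attribute [local instance] Curv2.stalkAlgebra Curv2.resAlgebra

namespace Groth.Agent.H34.SmoothCurveStalk

variable (k : Type u) [Field k] (X : Scheme.{u}) [X.Over (Spec (CommRingCat.of k))]

/-- The ring map from the base field to the functions on an open. -/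
noncomputable def toOpen (V : X.Opens) : k →+* Γ(X, V) :=
  ((X ↘ Spec (CommRingCat.of k)).appLE ⊤ V le_top).hom.comp
    (Scheme.ΓSpecIso (CommRingCat.of k)).inv.hom

theorem germ_comp_toOpen (V : X.Opens) (x : X) (hx : x ∈ V) :
    (X.presheaf.germ V x hx).hom.comp (toOpen k X V) = Curv2.stalkMap k X x := by
  have h : (X ↘ Spec (CommRingCat.of k)).appLE ⊤ V le_top ≫ X.presheaf.germ V x hx =
      (X ↘ Spec (CommRingCat.of k)).appTop ≫ X.presheaf.germ ⊤ x trivial := by
    have := ((X ↘ Spec (CommRingCat.of k)).appLE_map (U := ⊤) (V := ⊤) (V' := V) le_top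
      (homOfLE le_top).op)
    rw [← this, Category.assoc, X.presheaf.germ_res, Scheme.Hom.appTop, Scheme.Hom.app_eq_appLE]
    rfl
  ext c
  exact congr($(h).hom ((Scheme.ΓSpecIso (CommRingCat.of k)).inv.hom c))

/-- Around a point of smoothness there is an affine open with standard smooth coordinate ring. -/
theorem exists_affine_standardSmooth (n : ℕ) (x : X)
    (hsm : ∃ U : X.Opens, x ∈ U ∧ SmoothOfRelativeDimension n (U.ι ≫ (X ↘ (Spec (CommRingCat.of k))))) :
    ∃ V : X.Opens, IsAffineOpen V ∧ x ∈ V ∧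
      (toOpen k X V).IsStandardSmoothOfRelativeDimension n := by
  obtain ⟨U, hxU, hU⟩ := hsm
  obtain ⟨O, -, W, hW, hxW, e, hs⟩ := hU.exists_isStandardSmoothOfRelativeDimension ⟨x, hxU⟩
  obtain rfl : O = ⊤ := by
    refine top_le_iff.1 fun y _ => ?_
    have h1 := e hxW
    have h2 : y = (U.ι ≫ (X ↘ (Spec (CommRingCat.of k)))).base ⟨x, hxU⟩ :=
      Subsingleton.elim (α := PrimeSpectrum k) _ _
    exact h2 ▸ h1
  refine ⟨U.ι ''ᵁ W, hW.image_of_isOpenImmersion U.ι, ⟨⟨x, hxU⟩, hxW, rfl⟩, ?_⟩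
  have h : (U.ι ≫ (X ↘ Spec (CommRingCat.of k))).appLE ⊤ W e =
      (X ↘ Spec (CommRingCat.of k)).appLE ⊤ (U.ι ''ᵁ W) le_top := by
    rw [← Scheme.Hom.appLE_comp_appLE _ _ ⊤ (U.ι ''ᵁ W) W le_top (U.ι.preimage_image_eq W).ge,
      Scheme.Opens.ι_appLE]
    exact (congrArg _ (X.presheaf.map_id _)).trans (Category.comp_id _)
  rw [h] at hs
  exact RingHom.isStandardSmoothOfRelativeDimension_respectsIso.2 _
    (Scheme.ΓSpecIso (CommRingCat.of k)).symm.commRingCatIsoToRingEquiv hs

/-- Structure of the local ring of a smooth curve at a closed point. -/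
theorem closedPoint_facts (x : X) (hx : IsClosed ({x} : Set X))
    (hsm : ∃ U : X.Opens, x ∈ U ∧ SmoothOfRelativeDimension 1 (U.ι ≫ (X ↘ (Spec (CommRingCat.of k))))) :
    Algebra.EssFiniteType k (X.presheaf.stalk x) ∧
      Nonempty (Ω[(X.presheaf.stalk x)⁄k] ≃ₗ[X.presheaf.stalk x] X.presheaf.stalk x) ∧
      ∃ _ : IsDomain (X.presheaf.stalk x), IsDiscreteValuationRing (X.presheaf.stalk x) := by
  obtain ⟨V, hV, hxV, hs⟩ := exists_affine_standardSmooth k X 1 x hsm
  algebraize [toOpen k X V]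
  let : Algebra Γ(X, V) (X.presheaf.stalk x) := TopCat.Presheaf.algebra_section_stalk X.presheaf ⟨x, hxV⟩
  have : IsScalarTower k Γ(X, V) (X.presheaf.stalk x) :=
    IsScalarTower.of_algebraMap_eq fun c => (congr($(germ_comp_toOpen k X V x hxV) c)).symm
  let q := (hV.primeIdealOf ⟨x, hxV⟩).asIdeal
  have : q.IsMaximal := hV.primeIdealOf_isMaximal_of_isClosed ⟨x, hxV⟩ hx
  have : IsLocalization.AtPrime (X.presheaf.stalk x) q := hV.isLocalization_stalk ⟨x, hxV⟩
  have : Algebra.IsStandardSmooth k Γ(X, V) :=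
    Algebra.IsStandardSmoothOfRelativeDimension.isStandardSmooth 1
  exact ⟨SmoothCurveAlg.essFiniteType k q, SmoothCurveAlg.kaehler_equiv k q,
    SmoothCurveAlg.exists_isDiscreteValuationRing k q⟩

end Groth.Agent.H34.SmoothCurveStalk
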