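import Groth.Prelude.Def_Curve
import Groth.Agent.Lib.Curves.Positivity
import Groth.Agent.Lib.CurveBundle.Rank
import Groth.Agent.Lib.CurveBundle.EndAlg
import Groth.Agent.Lib.CohBasics.Closure

/-!
Nonzero endomorphisms of stable bundles on smooth proper curves are isomorphisms.
-/

set_option linter.style.haveILetI false

universe u

open CategoryTheory CategoryTheory.Limits AlgebraicGeometry TopologicalSpace

namespace Groth.Agent.H34.StableSimple

open Groth.Agent.Lib
open Curves.Euler

variable {k : Type u} [Field k] [IsAlgClosed k] {X : Scheme.{u}}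
  [X.Over (Spec (CommRingCat.of k))] [IsIntegral X] [Smooth (X ↘ Spec (CommRingCat.of k))]
  [IsLocallyNoetherian X] [NoetherianSpace X] (hdim : topologicalKrullDim X = 1)
  (hgood : ∀ F : X.Modules, Coh.IsCoh F → IsGood k X F)
  {r : ℕ} {E : X.Modules} (hE : FlatMod.IsFinLocFreeOfRank r E)
  (hst : ∀ (G : X.Modules) (s : ℕ) (ι : G ⟶ E), Mono ι → FlatMod.IsFinLocFreeOfRank s G → 0 < s →
    s < r → Curv2.deg k X G s * (r : ℤ) < Curv2.deg k X E r * (s : ℤ))

include hdim hgood hE in
theorem isIso_of_mono (φ : E ⟶ E) [Mono φ] : IsIso φ := by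
  have hEc := CurveBundle.Coherent.isCoh (TensorMod.LocFree.of_rank hE)
  have hS := Curves.Positivity.cokerSES_shortExact φ
  let Q := cokernel φ
  have hQc : Coh.IsCoh Q := CohBasics.Closure.isCoh_cokernel φ hEc.1 hEc
  have hQ0 : CurveBundle.Rank.grank Q = 0 := by
    have := CurveBundle.Rank.grank_add hS hEc
    change CurveBundle.Rank.grank E = CurveBundle.Rank.grank E + CurveBundle.Rank.grank Q at this
    omega
  have hT : Curves.Positivity.IsTorsion Q := fun x hx =>
    Curves.Positivity.eq_genericPoint_of_isGenPt hx ▸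
      CurveBundle.Rank.subsingleton_of_grank_eq_zero hQc hQ0
  have h := euler_add hS (hgood _ hEc) (hgood _ hEc) (hgood _ hQc)
  change Curv2.euler k X E = Curv2.euler k X E + Curv2.euler k X Q at h
  haveI := (hgood _ hQc).fin₀
  have h0 : Subsingleton (Coh.HH X Q 0) := by
    rw [← Module.finrank_zero_iff (R := k)]
    have := hT.euler (k := k) hdim.le
    omega
  haveI := hT.flasque hdim.le
  have hz : IsZero Q := Curves.Positivity.isZero_of_flasque h0
  haveI : Epi φ := Abelian.epi_of_cokernel_π_eq_zero φ (hz.eq_of_tgt _ _)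
  exact isIso_of_mono_of_epi φ

omit [IsIntegral X] [IsLocallyNoetherian X] [NoetherianSpace X] [X.Over (Spec (CommRingCat.of k))]
  [Smooth (X ↘ Spec (CommRingCat.of k))] in
theorem image_shortExact {A B : X.Modules} (φ : A ⟶ B) :
    ∃ w, (ShortComplex.mk (kernel.ι φ) (Abelian.factorThruImage φ) w).ShortExact := by
  have w : kernel.ι φ ≫ Abelian.factorThruImage φ = 0 := by
    rw [← cancel_mono (Abelian.image.ι φ), Category.assoc, Abelian.image.fac, kernel.condition,
      zero_comp]
  refine ⟨w, ?_⟩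
  let S : ShortComplex X.Modules := ShortComplex.mk (kernel.ι φ) (Abelian.factorThruImage φ) w
  let ψ : S ⟶ ShortComplex.mk (kernel.ι φ) φ (kernel.condition φ) :=
    ⟨𝟙 _, 𝟙 _, Abelian.image.ι φ, by simp [S], by simp [S]⟩
  haveI : Epi ψ.τ₁ := inferInstanceAs (Epi (𝟙 _))
  haveI : IsIso ψ.τ₂ := inferInstanceAs (IsIso (𝟙 _))
  haveI : Mono ψ.τ₃ := inferInstanceAs (Mono (Abelian.image.ι φ))
  exact
    { exact := (ShortComplex.exact_iff_of_epi_of_isIso_of_mono ψ).2
        (ShortComplex.exact_of_f_is_kernel _ (kernelIsKernel φ))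
      mono_f := inferInstanceAs (Mono (kernel.ι φ))
      epi_g := inferInstanceAs (Epi (Abelian.factorThruImage φ)) }

include hdim hgood hE hst in
theorem isIso_of_ne_zero (φ : E ⟶ E) (hφ : φ ≠ 0) : IsIso φ := by
  have hEc := CurveBundle.Coherent.isCoh (TensorMod.LocFree.of_rank hE)
  let G := Abelian.image φ
  let K := kernel φ
  have hGc : Coh.IsCoh G := CohBasics.Closure.isCoh_image φ hEc.1 hEc
  have hKc : Coh.IsCoh K := CohBasics.Closure.isCoh_kernel φ hEc hEc.1
  obtain ⟨hGf, -⟩ := CurveBundle.Rank.sub_rank k hdim hE (Abelian.image.ι φ) hGc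
  obtain ⟨hKf, -⟩ := CurveBundle.Rank.sub_rank k hdim hE (kernel.ι φ) hKc
  obtain ⟨w, hS⟩ := image_shortExact φ
  have hrk : r = CurveBundle.Rank.grank K + CurveBundle.Rank.grank G :=
    (CurveBundle.Rank.grank_eq_of_rank hE).symm.trans (CurveBundle.Rank.grank_add (S := ShortComplex.mk (kernel.ι φ) (Abelian.factorThruImage φ) w) hS hEc)
  have hG0 : CurveBundle.Rank.grank G ≠ 0 := fun h0 => hφ (by
    have hz : IsZero G := CurveBundle.Rank.isZero_of_grank_eq_zero hGc
      (CurveBundle.Rank.isTorsionFree_of_mono (Abelian.image.ι φ)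
        (CurveBundle.Coherent.isTorsionFree (TensorMod.LocFree.of_rank hE))) h0
    rw [← Abelian.image.fac φ, hz.eq_of_tgt (Abelian.factorThruImage φ) 0, zero_comp])
  by_cases hK0 : CurveBundle.Rank.grank K = 0
  · have hz : IsZero K := CurveBundle.Rank.isZero_of_grank_eq_zero hKc
      (CurveBundle.Rank.isTorsionFree_of_mono (kernel.ι φ)
        (CurveBundle.Coherent.isTorsionFree (TensorMod.LocFree.of_rank hE))) hK0
    haveI : Mono φ := Preadditive.mono_of_kernel_zero (hz.eq_of_src _ _)
    exact isIso_of_mono hdim hgood hE φ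
  exfalso
  have h1 := hst G (CurveBundle.Rank.grank G) (Abelian.image.ι φ) inferInstance hGf
    (Nat.pos_of_ne_zero hG0) (by omega)
  have h2 := hst K (CurveBundle.Rank.grank K) (kernel.ι φ) inferInstance hKf
    (Nat.pos_of_ne_zero hK0) (by omega)
  have he := euler_add (S := ShortComplex.mk (kernel.ι φ) (Abelian.factorThruImage φ) w) hS (hgood _ hKc) (hgood _ hEc) (hgood _ hGc)
  change Curv2.euler k X E = Curv2.euler k X K + Curv2.euler k X G at he
  have hr : (r : ℤ) = CurveBundle.Rank.grank K + CurveBundle.Rank.grank G := by exact_mod_cast hrk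
  unfold Curv2.deg at h1 h2
  rw [he, hr] at h1 h2
  ring_nf at h1 h2
  linarith

include hdim hgood hE hst in
/-- Stable bundles are simple. -/
theorem exists_scalar [IsProper (X ↘ Spec (CommRingCat.of k))] (φ : E ⟶ E) :
    ∃ a : k, φ = CurveBundle.EndAlg.scalHom E (CurveBundle.EndAlg.cst X k a) := by
  by_cases hz : IsZero E
  · exact ⟨0, hz.eq_of_src _ _⟩
  let _ := CurveBundle.EndAlg.algEnd k E
  haveI : Nontrivial (End E) := ⟨⟨1, 0, fun h10 => hz ((IsZero.iff_id_eq_zero E).mpr h10)⟩⟩
  obtain ⟨p, hp, hp0⟩ := CurveBundle.EndAlg.isIntegral_end k hE φ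
  obtain ⟨a, ha⟩ : ∃ a : k, ¬ IsUnit ((show End E from φ) - algebraMap k (End E) a) := by
    by_contra hall
    push Not at hall
    have hsplit := Polynomial.Splits.eq_prod_roots (IsAlgClosed.splits p)
    rw [hp.leadingCoeff, map_one, one_mul] at hsplit
    have hu : IsUnit (Polynomial.aeval (show End E from φ) p) := by
      rw [hsplit]
      generalize p.roots = s
      induction s using Multiset.induction_on with
      | empty => rw [Multiset.map_zero, Multiset.prod_zero, map_one]; exact isUnit_one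
      | cons b s ih =>
        rw [Multiset.map_cons, Multiset.prod_cons, map_mul, Polynomial.aeval_sub,
          Polynomial.aeval_X, Polynomial.aeval_C]
        exact (hall b).mul ih
    exact not_isUnit_zero (M₀ := End E) (hp0 ▸ hu)
  refine ⟨a, ?_⟩
  by_contra hne
  refine ha ((isUnit_iff_isIso _).2 (isIso_of_ne_zero hdim hgood hE hst _ ?_))
  exact sub_ne_zero.2 hne

end Groth.Agent.H34.StableSimple
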